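import Groth.Agent.PCohPunctual.Derived
import Mathlib.Algebra.Homology.HomologicalComplexLimits
import Mathlib.CategoryTheory.Limits.Constructions.EventuallyConstant
import Mathlib.CategoryTheory.Functor.OfSequence

/-!
# Pseudo-coherence (punctual case): resolutions by complexes with all terms in `C₀`
-/

set_option autoImplicit false
set_option linter.unusedSectionVars false
set_option linter.style.haveILetI false

universe w v u

open CategoryTheory CategoryTheory.Limits CochainComplex HomologicalComplex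

namespace Groth.PCohPunctual

variable {C : Type u} [Category.{v} C] [Abelian C] [HasDerivedCategory.{w} C]
variable {P : ObjectProperty C}

/-- A partial resolution of `u` down to degree `n`. -/
structure Stage (P : ObjectProperty C) {E F : CochainComplex C ℤ} (u : E ⟶ F) (n : ℤ) where
  /-- the complex -/
  K : CochainComplex C ℤ
  /-- the inclusion -/
  v : E ⟶ K
  /-- the map to the target -/
  f : K ⟶ F
  fac : v ≫ f = u
  strict : PCoh.IsStrictPCAll P K
  nqis : NQis f n
  mono : ∀ i, Mono (v.f i)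

theorem exists_next (hA : IsAdditiveSub P) (hqs : PCoh.IsQuasiStableUnderKernels P)
    (hql : PCoh.IsQuasiLiftable P) {E F : CochainComplex C ℤ} {u : E ⟶ F}
    (hF : PCoh.IsPC P (DerivedCategory.Q.obj F)) {n m : ℤ} (hm : m + 1 = n)
    (S : Stage P u n) :
    ∃ (S' : Stage P u m) (t : S.K ⟶ S'.K), S.v ≫ t = S'.v ∧ t ≫ S'.f = S.f ∧
      ∀ i, i ≠ m → IsIso (t.f i) := by
  subst hm
  obtain ⟨K', t, f', hfac, hmono, hiso, -, hP, hf'⟩ := exists_step hA hql S.nqis
    (stepHyp hA hqs hql (hF m) m S.K S.f le_rfl ⟨S.strict.1, fun i _ => S.strict.2 i⟩ S.nqis)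
  refine ⟨⟨K', S.v ≫ t, f', by rw [Category.assoc, hfac, S.fac], ⟨?_, fun i => ?_⟩, hf',
    fun i => ?_⟩, t, rfl, hfac, hiso⟩
  · obtain ⟨c, hc⟩ := S.strict.1
    refine ⟨max c m, fun i hi => ?_⟩
    haveI := hiso i (by omega)
    exact (hc i (by omega)).of_iso (asIso (t.f i)).symm
  · by_cases h : i = m
    · subst h; exact hP (S.strict.2 _)
    · haveI := hiso i h
      exact hA.of_iso (asIso (t.f i)) (S.strict.2 i)
  · haveI := S.mono i; haveI := hmono i
    exact mono_comp _ _

/-- `S12101` -/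
theorem exists_qis_extension_all (hA : IsAdditiveSub P) (hqs : PCoh.IsQuasiStableUnderKernels P)
    (hql : PCoh.IsQuasiLiftable P) {n : ℤ} {E F : CochainComplex C ℤ}
    (hE : PCoh.IsStrictPCAll P E) (hF : PCoh.IsPC P (DerivedCategory.Q.obj F)) {u : E ⟶ F}
    (hu : NQis u n) :
    ∃ (E' : CochainComplex C ℤ) (v : E ⟶ E') (u' : E' ⟶ F), v ≫ u' = u ∧
      PCoh.IsStrictPCAll P E' ∧ QuasiIso u' ∧ (∀ j : ℤ, Mono (v.f j)) ∧
      (∀ j : ℤ, n ≤ j → IsIso (v.f j)) := by
  choose next tr hv hf hiso using fun (k : ℕ) (S : Stage P u (n - k)) =>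
    exists_next hA hqs hql hF (show (n - (k + 1 : ℕ)) + 1 = n - k by omega) S
  let S₀ : Stage P u (n - (0 : ℕ)) :=
    ⟨E, 𝟙 E, u, Category.id_comp _, hE, by simpa using hu, fun i => by dsimp; infer_instance⟩
  let S : (k : ℕ) → Stage P u (n - k) :=
    fun k => Nat.rec (motive := fun k => Stage P u (n - k)) S₀ next k
  have hS : ∀ k, S (k + 1) = next k (S k) := fun k => rfl
  let t : ∀ k, (S k).K ⟶ (S (k + 1)).K := fun k => tr k (S k)
  let D : ℕ ⥤ CochainComplex C ℤ := Functor.ofSequence t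
  have hmap : ∀ (i : ℤ) (a b : ℕ) (h : a ≤ b), n - i ≤ a → IsIso ((D.map (homOfLE h)).f i) := by
    intro i a b h ha
    induction b, h using Nat.le_induction with
    | base =>
      change IsIso ((D.map (𝟙 a)).f i)
      rw [CategoryTheory.Functor.map_id]
      dsimp
      infer_instance
    | succ b hab ih =>
      haveI := ih
      haveI := hiso b (S b) i (by omega)
      have he : D.map (homOfLE (hab.trans (Nat.le_succ b))) = D.map (homOfLE hab) ≫ t b := by
        rw [← homOfLE_comp hab (Nat.le_add_right b 1), Functor.map_comp,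
          Functor.ofSequence_map_homOfLE_succ]
        rfl
      rw [he]
      change IsIso ((D.map (homOfLE hab)).f i ≫ (t b).f i)
      exact IsIso.comp_isIso' inferInstance (hiso b (S b) i (by omega))
  have hev : ∀ (i : ℤ) (a : ℕ), n - i ≤ a →
      (D ⋙ HomologicalComplex.eval C (ComplexShape.up ℤ) i).IsEventuallyConstantFrom a :=
    fun i a ha b φ => by
      have : φ = homOfLE (leOfHom φ) := Subsingleton.elim _ _
      rw [this]
      exact hmap i a b (leOfHom φ) ha
  haveI : ∀ i : ℤ, HasColimit (D ⋙ HomologicalComplex.eval C (ComplexShape.up ℤ) i) :=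
    fun i => (hev i (n - i).toNat (by omega)).hasColimit
  have hι : ∀ (i : ℤ) (a : ℕ), n - i ≤ a → IsIso ((colimit.ι D a).f i) := fun i a ha =>
    (hev i a ha).isIso_ι_of_isColimit
      (isColimitOfPreserves (HomologicalComplex.eval C (ComplexShape.up ℤ) i) (colimit.isColimit D))
  let c : Cocone D :=
    { pt := F
      ι := NatTrans.ofSequence (fun k => (S k).f) (fun k => by
        dsimp only [D]
        rw [Functor.ofSequence_map_homOfLE_succ, Functor.const_obj_map]
        exact (hf k (S k)).trans (Category.comp_id _).symm) }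
  have hfac : ∀ a, colimit.ι D a ≫ colimit.desc D c = (S a).f := fun a => colimit.ι_desc c a
  refine ⟨colimit D, colimit.ι D 0, colimit.desc D c, hfac 0, ⟨?_, fun i => ?_⟩, ⟨fun i => ?_⟩,
    fun i => ?_, fun i hi => ?_⟩
  · obtain ⟨b, hb⟩ := hE.1
    refine ⟨max b n, fun i hi => ?_⟩
    haveI := hι i 0 (by omega)
    exact (hb i (by omega)).of_iso (asIso ((colimit.ι D 0).f i)).symm
  · haveI := hι i (n - i).toNat (by omega)
    exact hA.of_iso (asIso ((colimit.ι D (n - i).toNat).f i)) ((S (n - i).toNat).strict.2 i)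
  · let a := (n - i).toNat + 1
    rw [quasiIsoAt_iff_isIso_homologyMap]
    haveI h₁ : IsIso (homologyMap (colimit.ι D a) i) := by
      rw [← quasiIsoAt_iff_isIso_homologyMap, quasiIsoAt_iff' _ (i - 1) i (i + 1) (by simp) (by simp)]
      let φ := (shortComplexFunctor' C (ComplexShape.up ℤ) (i - 1) i (i + 1)).map (colimit.ι D a)
      haveI : IsIso φ.τ₁ := hι (i - 1) a (by omega)
      haveI : IsIso φ.τ₂ := hι i a (by omega)
      haveI : IsIso φ.τ₃ := hι (i + 1) a (by omega)
      exact ShortComplex.quasiIso_of_epi_of_isIso_of_mono φ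
    have h₂ := (S a).nqis.1 i (by omega)
    have h := congrArg (fun g => homologyMap g i) (hfac a)
    rw [homologyMap_comp] at h
    exact @IsIso.of_isIso_fac_left _ _ _ _ _ _ _ _ h₁ h₂ h
  · obtain ⟨a, ha⟩ : ∃ a : ℕ, n - i ≤ a := ⟨(n - i).toNat, by omega⟩
    have hm : Mono ((D.map (homOfLE (Nat.zero_le a))).f i) := by
      clear ha
      induction a with
      | zero =>
        change Mono ((D.map (𝟙 0)).f i)
        rw [CategoryTheory.Functor.map_id]
        dsimp
        infer_instance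
      | succ a ih =>
        haveI := (S (a + 1)).mono i
        have hv' : ∀ b : ℕ, D.map (homOfLE (Nat.zero_le b)) = (S b).v := by
          intro b
          induction b with
          | zero =>
            change D.map (𝟙 0) = _
            rw [CategoryTheory.Functor.map_id]
            rfl
          | succ b ih =>
            rw [← homOfLE_comp (Nat.zero_le b) (Nat.le_add_right b 1), Functor.map_comp,
              Functor.ofSequence_map_homOfLE_succ, ih]
            exact hv b (S b)
        rw [hv']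
        exact (S (a + 1)).mono i
    have hi := hι i a ha
    rw [← colimit.w D (homOfLE (Nat.zero_le a)), comp_f]
    exact @mono_comp _ _ _ _ _ _ hm _ (@IsIso.mono_of_iso _ _ _ _ _ hi)
  · exact hι i 0 (by omega)

theorem strictPCAll_zero (hA : IsAdditiveSub P) :
    PCoh.IsStrictPCAll P (HomologicalComplex.zero : CochainComplex C ℤ) :=
  ⟨⟨0, fun i _ => isZero_zeroComplex_X i⟩, fun i => hA.zero _ (isZero_zeroComplex_X i)⟩

/-- `S5618` -/
theorem exists_all_vanishing_above (hA : IsAdditiveSub P) (hqs : PCoh.IsQuasiStableUnderKernels P)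
    (hql : PCoh.IsQuasiLiftable P) (m : ℤ) {F : DerivedCategory C} (hF : PCoh.IsPC P F)
    (hac : ∀ i : ℤ, m ≤ i → IsZero ((DerivedCategory.homologyFunctor C i).obj F)) :
    ∃ E : CochainComplex C ℤ, (∀ i : ℤ, P (E.X i)) ∧ (∀ i : ℤ, m ≤ i → IsZero (E.X i)) ∧
      Nonempty (DerivedCategory.Q.obj E ≅ F) := by
  let G := DerivedCategory.Q.objPreimage F
  let e : DerivedCategory.Q.obj G ≅ F := DerivedCategory.Q.objObjPreimageIso F
  obtain ⟨E, v, f, -, hE, hf, -, hv⟩ := exists_qis_extension_all hA hqs hql (strictPCAll_zero hA)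
    (fun k => PCn.of_iso (hF k) e.symm) (nqis_zero fun i hi => isZero_homology_of_iso e (hac i hi))
  refine ⟨E, hE.2, fun i hi => ?_, ⟨asIso (DerivedCategory.Q.map f) ≪≫ e⟩⟩
  haveI := hv i hi
  exact (isZero_zeroComplex_X i).of_iso (asIso (v.f i)).symm

/-- `S4295` -/
theorem exists_resolution (hA : IsAdditiveSub P) (hqs : PCoh.IsQuasiStableUnderKernels P)
    (hql : PCoh.IsQuasiLiftable P) {F : DerivedCategory C} (hF : PCoh.IsPC P F) :
    ∃ E : CochainComplex C ℤ, PCoh.IsStrictPCAll P E ∧ Nonempty (DerivedCategory.Q.obj E ≅ F) := by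
  obtain ⟨b, hb⟩ := PCn.bddAbove (hF 0)
  obtain ⟨E, hP, hz, he⟩ :=
    exists_all_vanishing_above hA hqs hql (b + 1) hF (fun i hi => hb i (by omega))
  exact ⟨E, ⟨⟨b, fun i hi => hz i (by omega)⟩, hP⟩, he⟩

theorem exists_all_qis_to (hA : IsAdditiveSub P) (hqs : PCoh.IsQuasiStableUnderKernels P)
    (hql : PCoh.IsQuasiLiftable P) {G : CochainComplex C ℤ}
    (hG : PCoh.IsPC P (DerivedCategory.Q.obj G)) :
    ∃ (E : CochainComplex C ℤ) (s : E ⟶ G), PCoh.IsStrictPCAll P E ∧ QuasiIso s := by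
  obtain ⟨b, hb⟩ := PCn.bddAbove (hG 0)
  obtain ⟨E, v, f, -, hE, hf, -, -⟩ := exists_qis_extension_all hA hqs hql (strictPCAll_zero hA)
    hG (nqis_zero (n := b + 1) fun i hi => isZero_homology_of_iso (Iso.refl _) (hb i (by omega)))
  exact ⟨E, f, hE, hf⟩

theorem isPC_of_strictPCAll {E : CochainComplex C ℤ} (hE : PCoh.IsStrictPCAll P E) :
    PCoh.IsPC P (DerivedCategory.Q.obj E) :=
  fun _ => ⟨E, ⟨hE.1, fun i _ => hE.2 i⟩, ⟨Iso.refl _⟩⟩

/-- `S4296` -/
theorem exists_all_roof (hA : IsAdditiveSub P) (hqs : PCoh.IsQuasiStableUnderKernels P)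
    (hql : PCoh.IsQuasiLiftable P) {E E' : CochainComplex C ℤ} (hE : PCoh.IsStrictPCAll P E)
    (α : DerivedCategory.Q.obj E ⟶ DerivedCategory.Q.obj E') :
    ∃ (E'' : CochainComplex C ℤ) (s : E'' ⟶ E) (f : E'' ⟶ E'), PCoh.IsStrictPCAll P E'' ∧
      QuasiIso s ∧ DerivedCategory.Q.map s ≫ α = DerivedCategory.Q.map f := by
  obtain ⟨X, s, hs, g, rfl⟩ := DerivedCategory.right_fac α
  haveI : QuasiIso s := (DerivedCategory.isIso_Q_map_iff_quasiIso (φ := s)).1 hs
  obtain ⟨E'', t, hE'', ht⟩ := exists_all_qis_to hA hqs hql (G := X)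
    fun k => PCn.of_iso (isPC_of_strictPCAll hE k) (asIso (DerivedCategory.Q.map s)).symm
  exact ⟨E'', t ≫ s, t ≫ g, hE'', inferInstance, by simp⟩

/-- `S4297` -/
theorem exists_homotopic (hA : IsAdditiveSub P) (hqs : PCoh.IsQuasiStableUnderKernels P)
    (hql : PCoh.IsQuasiLiftable P) {E E' : CochainComplex C ℤ} (hE : PCoh.IsStrictPCAll P E)
    (f g : E ⟶ E') (hfg : DerivedCategory.Q.map f = DerivedCategory.Q.map g) :
    ∃ (E'' : CochainComplex C ℤ) (s : E'' ⟶ E), PCoh.IsStrictPCAll P E'' ∧ QuasiIso s ∧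
      Nonempty (Homotopy (s ≫ f) (s ≫ g)) := by
  let q := HomotopyCategory.quotient C (ComplexShape.up ℤ)
  have h : DerivedCategory.Qh.map (q.map f) = DerivedCategory.Qh.map (q.map g) := by
    apply (cancel_epi ((DerivedCategory.quotientCompQhIso C).inv.app E)).1
    have hn : ∀ φ : E ⟶ E', (DerivedCategory.quotientCompQhIso C).inv.app E ≫
        DerivedCategory.Qh.map (q.map φ) =
        DerivedCategory.Q.map φ ≫ (DerivedCategory.quotientCompQhIso C).inv.app E' :=
      fun φ => ((DerivedCategory.quotientCompQhIso C).inv.naturality φ).symm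
    rw [hn, hn, hfg]
  obtain ⟨X', s, hs, hcomp⟩ := (MorphismProperty.map_eq_iff_precomp DerivedCategory.Qh
    (HomotopyCategory.quasiIso C (ComplexShape.up ℤ)) _ _).1 h
  obtain ⟨X, rfl⟩ := HomotopyCategory.quotient_obj_surjective X'
  obtain ⟨s, rfl⟩ := q.map_surjective s
  rw [HomotopyCategory.quotient_map_mem_quasiIso_iff] at hs
  haveI : QuasiIso s := hs
  obtain ⟨E'', t, hE'', ht⟩ := exists_all_qis_to hA hqs hql (G := X)
    fun k => PCn.of_iso (isPC_of_strictPCAll hE k) (asIso (DerivedCategory.Q.map s)).symm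
  refine ⟨E'', t ≫ s, hE'', inferInstance, ⟨?_⟩⟩
  rw [← q.map_comp, ← q.map_comp] at hcomp
  exact ((HomotopyCategory.homotopyOfEq _ _ hcomp).compLeft t).trans (Homotopy.ofEq (by simp))
    |> fun H => (Homotopy.ofEq (by simp)).trans H

end Groth.PCohPunctual
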