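import Groth.Agent.PCohPunctual.Devissage
import Mathlib.Algebra.Homology.DerivedCategory.KProjective

/-!
# Perfect complexes relative to a liftable subcategory (punctual case)
-/

set_option autoImplicit false
set_option linter.unusedSectionVars false
set_option linter.style.haveILetI false

universe w v u

open CategoryTheory CategoryTheory.Limits CochainComplex HomologicalComplex
open CategoryTheory.Pretriangulated DerivedCategory

namespace Groth.PCohPunctual

variable {C : Type u} [Category.{v} C] [Abelian C]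
variable {P : ObjectProperty C}

variable (P) in
/-- Liftable. -/
def IsLiftable : Prop := ∀ (E F : C) (u : E ⟶ F), Epi u → P F → IsSplitEpi u

variable (P) in
/-- Stable under kernels of epimorphisms. -/
def IsStableKer : Prop := ∀ (E F : C) (u : E ⟶ F), Epi u → P E → P F → P (kernel u)

theorem projective_of_liftable (hl : IsLiftable P) {X : C} (hX : P X) : Projective X where
  factors {Y Z} f e _ := by
    haveI := hl _ _ (pullback.fst f e) inferInstance hX
    exact ⟨section_ (pullback.fst f e) ≫ pullback.snd f e, by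
      rw [Category.assoc, ← pullback.condition, IsSplitEpi.id_assoc]⟩

theorem quasiLiftable_of_liftable (hl : IsLiftable P) : PCoh.IsQuasiLiftable P := by
  intro E F u hu hF
  haveI := hl E F u hu hF
  exact ⟨F, section_ u, hF, by rw [IsSplitEpi.id]; infer_instance⟩

theorem epi_toCycles_of_exactAt {ι : Type*} {c : ComplexShape ι} (K : HomologicalComplex C c)
    {i j : ι} (hij : c.prev j = i) (h : K.ExactAt j) : Epi (K.toCycles i j) := by
  rw [epi_iff_surjective_up_to_refinements]
  intro A y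
  obtain ⟨A', π, hπ, x, hx⟩ :=
    (K.exactAt_iff_exact_up_to_refinements i j (c.next j) hij rfl).1 h (y ≫ K.iCycles j) (by simp)
  exact ⟨A', π, hπ, x, by simp [← cancel_mono (K.iCycles j), hx]⟩

theorem shortExact_cycles {ι : Type*} {c : ComplexShape ι} (K : HomologicalComplex C c)
    {i j : ι} (hij : c.prev j = i) (hji : c.next i = j) (h : K.ExactAt j) :
    (ShortComplex.mk (K.iCycles i) (K.toCycles i j)
      (by simp [← cancel_mono (K.iCycles j)])).ShortExact := by
  haveI := epi_toCycles_of_exactAt K hij h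
  refine { exact := ?_ }
  rw [ShortComplex.exact_iff_exact_up_to_refinements]
  intro A x hx
  have hx' : x ≫ K.d i j = 0 := by
    change x ≫ K.toCycles i j = 0 at hx
    simpa [Category.assoc] using hx =≫ K.iCycles j
  exact ⟨A, 𝟙 A, inferInstance, K.liftCycles x j hji hx', by simp⟩

theorem prop_cycles_step (hA : IsAdditiveSub P) (hst : IsStableKer P) {ι : Type*}
    {c : ComplexShape ι} (K : HomologicalComplex C c)
    {i j : ι} (hij : c.prev j = i) (hji : c.next i = j) (h : K.ExactAt j) (hi : P (K.X i))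
    (hj : P (K.cycles j)) : P (K.cycles i) := by
  have hS := shortExact_cycles K hij hji h
  haveI := epi_toCycles_of_exactAt K hij h
  exact hA.of_iso
    ((kernelIsKernel _).conePointUniqueUpToIso hS.fIsKernel)
    (hst _ _ (K.toCycles i j) inferInstance hi hj)

theorem isZero_cycles {ι : Type*} {c : ComplexShape ι} (K : HomologicalComplex C c) {i : ι}
    (h : IsZero (K.X i)) : IsZero (K.cycles i) :=
  IsZero.of_mono_eq_zero (K.iCycles i) (h.eq_of_tgt _ _)

theorem prop_cycles_int (hA : IsAdditiveSub P) (hst : IsStableKer P) (K : CochainComplex C ℤ)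
    (b m : ℤ) (hb : ∀ i, b < i → IsZero (K.X i)) (hP : ∀ i, m ≤ i → P (K.X i))
    (hex : ∀ i, m < i → K.ExactAt i) : P (K.cycles m) := by
  suffices ∀ (k : ℕ) (i : ℤ), m ≤ i → b < i + k → P (K.cycles i) from
    this (b + 1 - m).toNat m le_rfl (by omega)
  intro k
  induction k with
  | zero => exact fun i _ hi => hA.zero _ (isZero_cycles K (hb i (by omega)))
  | succ k ih =>
    intro i hmi hi
    exact prop_cycles_step hA hst K (j := i + 1) (by simp) (by simp) (hex _ (by omega)) (hP i hmi)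
      (ih (i + 1) (by omega) (by omega))

theorem quasiStable_of_stableKer (hA : IsAdditiveSub P) (hst : IsStableKer P) :
    PCoh.IsQuasiStableUnderKernels P := by
  rintro K hex ⟨N, hN⟩ hP
  have main : ∀ (k i : ℕ), 1 ≤ i → N < i + k → P (K.cycles i) := by
    intro k
    induction k with
    | zero => exact fun i _ hi => hA.zero _ (isZero_cycles K (hN i (by omega)))
    | succ k ih =>
      intro i h1 hi
      exact prop_cycles_step hA hst K (j := i + 1) (by simp) (by simp) (hex _) (hP i h1)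
        (ih (i + 1) (by omega) (by omega))
  haveI : Mono (K.d 0 (0 + 1)) := by
    have := hex 0
    rw [K.exactAt_iff' 0 0 1 (by simp) (by simp)] at this
    exact this.mono_g (K.shape 0 0 (by simp))
  haveI : Mono (K.toCycles 0 (0 + 1)) := mono_of_mono_fac (K.toCycles_i 0 (0 + 1))
  haveI := epi_toCycles_of_exactAt K (i := 0) (j := 0 + 1) (by simp) (hex _)
  haveI : IsIso (K.toCycles 0 (0 + 1)) := isIso_of_mono_of_epi _
  exact ft_of_iso (asIso (K.toCycles 0 (0 + 1))).symm
    (ft_of_prop (main N (0 + 1) le_rfl (by omega)))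

variable [HasDerivedCategory.{w} C]

/-- `S5610` -/
theorem exists_truncated (hA : IsAdditiveSub P) (hst : IsStableKer P) (a b c : ℤ) (hab : a ≤ b)
    (F : CochainComplex C ℤ) (hP : ∀ i : ℤ, P (F.X i))
    (hvan : ∀ i : ℤ, i < a ∨ c < i → IsZero (F.X i))
    (hcoh : ∀ i : ℤ, b < i → IsZero (F.homology i)) :
    ∃ F' : CochainComplex C ℤ, (∀ i : ℤ, P (F'.X i)) ∧
      (∀ i : ℤ, i < a ∨ min b c < i → IsZero (F'.X i)) ∧
      Nonempty (DerivedCategory.Q.obj F' ≅ DerivedCategory.Q.obj F) := by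
  rcases le_or_gt c b with hcb | hcb
  · exact ⟨F, hP, fun i hi => hvan i (by omega), ⟨Iso.refl _⟩⟩
  haveI : F.IsLE b := by
    rw [CochainComplex.isLE_iff]
    exact fun i hi => (exactAt_iff_isZero_homology _ _).2 (hcoh i hi)
  refine ⟨F.truncLE b, fun i => ?_, fun i hi => ?_, ⟨asIso (DerivedCategory.Q.map (F.ιTruncLE b))⟩⟩
  · rcases lt_trichotomy i b with h | h | h
    · exact hA.of_iso (F.truncLEXIso b i h).symm (hP i)
    · subst h
      exact hA.of_iso (F.truncLEXIsoCycles i).symm (prop_cycles_int hA hst F c i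
        (fun j hj => hvan j (Or.inr hj)) (fun j _ => hP j)
        fun j hj => (exactAt_iff_isZero_homology _ _).2 (hcoh j hj))
    · exact hA.zero _ (CochainComplex.isZero_of_isStrictlyLE _ b i h)
  · rcases hi with hi | hi
    · exact (hvan i (Or.inl hi)).of_iso (F.truncLEXIso b i (by omega))
    · exact CochainComplex.isZero_of_isStrictlyLE _ b i (by omega)

/-- A morphism out of a bounded above complex of objects of a liftable subcategory. -/
theorem exists_map_of_liftable (hl : IsLiftable P) {E F : CochainComplex C ℤ} (b : ℤ)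
    (hb : ∀ i, b < i → IsZero (E.X i)) (hP : ∀ i, P (E.X i))
    (α : DerivedCategory.Q.obj E ⟶ DerivedCategory.Q.obj F) :
    ∃ g : E ⟶ F, DerivedCategory.Q.map g = α := by
  haveI : E.IsStrictlyLE b := (CochainComplex.isStrictlyLE_iff E b).2 hb
  haveI : ∀ n, Projective (E.X n) := fun n => projective_of_liftable hl (hP n)
  haveI := CochainComplex.isKProjective_of_projective E b
  obtain ⟨φ, hφ⟩ := (CochainComplex.IsKProjective.Qh_map_bijective E
    ((HomotopyCategory.quotient C (ComplexShape.up ℤ)).obj F)).surjective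
      ((DerivedCategory.quotientCompQhIso C).hom.app E ≫ α ≫
        (DerivedCategory.quotientCompQhIso C).inv.app F)
  obtain ⟨g, rfl⟩ := (HomotopyCategory.quotient C (ComplexShape.up ℤ)).map_surjective φ
  refine ⟨g, ?_⟩
  apply (cancel_epi ((DerivedCategory.quotientCompQhIso C).hom.app E)).1
  apply (cancel_mono ((DerivedCategory.quotientCompQhIso C).inv.app F)).1
  rw [Category.assoc, Category.assoc, ← hφ]
  refine Eq.trans ?_ (Category.id_comp _)
  rw [← Iso.hom_inv_id_app (DerivedCategory.quotientCompQhIso C) E, Category.assoc]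
  congr 1
  exact (DerivedCategory.quotientCompQhIso C).inv.naturality g

/-- Bounded complex with terms in `P`, up to isomorphism in `D(C)`. -/
def Amp (P : ObjectProperty C) (a b : ℤ) (F : DerivedCategory C) : Prop :=
  ∃ E : CochainComplex C ℤ, (∀ i : ℤ, P (E.X i)) ∧
    (∀ i : ℤ, i < a ∨ b < i → IsZero (E.X i)) ∧ Nonempty (DerivedCategory.Q.obj E ≅ F)

/-- `S5609` -/
theorem exists_perfect_cone (hA : IsAdditiveSub P) (hl : IsLiftable P)
    (T : Triangle (DerivedCategory C)) (hT : T ∈ distinguishedTriangles)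
    (h₁ : ∃ (E : CochainComplex C ℤ) (a b : ℤ), (∀ i : ℤ, i < a ∨ b < i → IsZero (E.X i)) ∧
      (∀ i : ℤ, P (E.X i)) ∧ Nonempty (DerivedCategory.Q.obj E ≅ T.obj₁))
    (h₂ : ∃ (E : CochainComplex C ℤ) (a b : ℤ), (∀ i : ℤ, i < a ∨ b < i → IsZero (E.X i)) ∧
      (∀ i : ℤ, P (E.X i)) ∧ Nonempty (DerivedCategory.Q.obj E ≅ T.obj₂)) :
    ∃ (E : CochainComplex C ℤ) (a b : ℤ), (∀ i : ℤ, i < a ∨ b < i → IsZero (E.X i)) ∧
      (∀ i : ℤ, P (E.X i)) ∧ Nonempty (DerivedCategory.Q.obj E ≅ T.obj₃) := by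
  obtain ⟨E, a, b, hE, hPE, ⟨e₁⟩⟩ := h₁
  obtain ⟨F, a', b', hF, hPF, ⟨e₂⟩⟩ := h₂
  obtain ⟨g, hg⟩ := exists_map_of_liftable hl b (fun i hi => hE i (Or.inr hi)) hPE
    (e₁.hom ≫ T.mor₁ ≫ e₂.inv)
  refine ⟨mappingCone g, min (a - 1) a', max b b', fun i hi => ?_, fun i => ?_,
    ⟨Triangle.π₃.mapIso (Pretriangulated.isoTriangleOfIso₁₂ _ T
      (DerivedCategory.mappingCone_triangle_distinguished g) hT e₁ e₂ (by
        change DerivedCategory.Q.map g ≫ e₂.hom = _
        rw [hg]; simp only [Category.assoc, Iso.inv_hom_id, Category.comp_id]; rfl))⟩⟩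
  · rw [mappingCone.isZero_X_iff]
    exact ⟨hE _ (by omega), hF _ (by omega)⟩
  · exact hA.of_iso (HomologicalComplex.homotopyCofiber.XIsoBiprod g i (i + 1) rfl).symm
      (hA.biprod (hPE _) (hPF _))

/-- `S5621` -/
theorem prop_first_term (hA : IsAdditiveSub P) (hl : IsLiftable P) (hst : IsStableKer P)
    (a b : ℤ) (hab : a ≤ b) (F : CochainComplex C ℤ)
    (hvan : ∀ i : ℤ, i < a ∨ b < i → IsZero (F.X i)) (hP : ∀ i : ℤ, a < i → P (F.X i))
    (hamp : Amp P a b (DerivedCategory.Q.obj F)) : P (F.X a) := by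
  obtain ⟨E, hPE, hE, ⟨e⟩⟩ := hamp
  obtain ⟨g, hg⟩ := exists_map_of_liftable hl b (fun i hi => hE i (Or.inr hi)) hPE e.hom
  haveI : QuasiIso g := by
    rw [← DerivedCategory.isIso_Q_map_iff_quasiIso (φ := g), hg]
    infer_instance
  have hex : ∀ i, (mappingCone g).ExactAt i := fun i =>
    exactAt_cone_of_nqis (nqis_of_quasiIso g i) le_rfl
  have hPC : ∀ i, a < i → P ((mappingCone g).X i) := fun i hi =>
    hA.of_iso (HomologicalComplex.homotopyCofiber.XIsoBiprod g i (i + 1) rfl).symm
      (hA.biprod (hPE _) (hP i hi))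
  have h₁ : P ((mappingCone g).cycles (a + 1)) :=
    prop_cycles_int hA hst (mappingCone g) b (a + 1)
      (fun i hi => by rw [mappingCone.isZero_X_iff]; exact ⟨hE _ (by omega), hvan _ (by omega)⟩)
      (fun i hi => hPC i (by omega)) (fun i _ => hex i)
  haveI : Mono ((mappingCone g).d (a - 1) a) := by
    have h := hex (a - 1)
    rw [(mappingCone g).exactAt_iff' (a - 1 - 1) (a - 1) a (by simp) (by simp)] at h
    have h0 : IsZero ((mappingCone g).X (a - 1 - 1)) := by
      rw [mappingCone.isZero_X_iff]; exact ⟨hE _ (by omega), hvan _ (by omega)⟩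
    exact h.mono_g (h0.eq_of_src _ _)
  haveI : Mono ((mappingCone g).toCycles (a - 1) a) :=
    mono_of_mono_fac ((mappingCone g).toCycles_i (a - 1) a)
  haveI := epi_toCycles_of_exactAt (mappingCone g) (i := a - 1) (j := a) (by simp) (hex a)
  haveI : IsIso ((mappingCone g).toCycles (a - 1) a) := isIso_of_mono_of_epi _
  have h₀ : P ((mappingCone g).cycles a) := by
    refine hA.of_iso (asIso ((mappingCone g).toCycles (a - 1) a)) ?_
    refine hA.of_iso (HomologicalComplex.homotopyCofiber.XIsoBiprod g (a - 1) a (by simp)).symm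
      (hA.biprod (hPE _) (hA.zero _ (hvan _ (Or.inl (by omega)))))
  have hS := shortExact_cycles (mappingCone g) (i := a) (j := a + 1) (by simp) (by simp) (hex _)
  haveI : Projective ((mappingCone g).cycles (a + 1)) := projective_of_liftable hl h₁
  have hCa : P ((mappingCone g).X a) :=
    hA.of_iso hS.splittingOfProjective.isoBinaryBiproduct.symm (hA.biprod h₀ h₁)
  have hbi : P (E.X (a + 1) ⊞ F.X a) :=
    hA.of_iso (HomologicalComplex.homotopyCofiber.XIsoBiprod g a (a + 1) rfl) hCa
  exact hA.of_iso kernelBiprodFstIso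
    (hst _ _ (biprod.fst : E.X (a + 1) ⊞ F.X a ⟶ E.X (a + 1)) inferInstance hbi (hPE _))

theorem isZero_homology_retract {X Y : DerivedCategory C} (i : X ⟶ Y) (p : Y ⟶ X)
    (hip : i ≫ p = 𝟙 X) {j : ℤ} (hY : IsZero ((DerivedCategory.homologyFunctor C j).obj Y)) :
    IsZero ((DerivedCategory.homologyFunctor C j).obj X) := by
  rw [IsZero.iff_id_eq_zero, ← CategoryTheory.Functor.map_id, ← hip, Functor.map_comp,
    hY.eq_of_tgt ((DerivedCategory.homologyFunctor C j).map i) 0, zero_comp]

theorem biprodX (A B : CochainComplex C ℤ) (i : ℤ) :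
    Nonempty ((A ⊞ B).X i ≅ A.X i ⊞ B.X i) :=
  ⟨(HomologicalComplex.eval C (ComplexShape.up ℤ) i).mapBiprod A B⟩

/-- `S5622` -/
theorem amp_biprod (hA : IsAdditiveSub P) (hl : IsLiftable P) (hst : IsStableKer P)
    (a b : ℤ) (hab : a ≤ b) (F' F'' : DerivedCategory C) [HasBinaryBiproduct F' F''] :
    ((Amp P a b F' ∧ Amp P a b F'') → Amp P a b (F' ⊞ F'')) ∧
      ((∀ (E' E'' : C) [HasBinaryBiproduct E' E''], P (E' ⊞ E'') → P E' ∧ P E'') →
        Amp P a b (F' ⊞ F'') → Amp P a b F' ∧ Amp P a b F'') := by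
  haveI : HasBinaryBiproducts (DerivedCategory C) := HasBinaryBiproducts.of_hasBinaryProducts
  haveI : PreservesFiniteBiproducts (DerivedCategory.Q (C := C)) :=
    Functor.preservesFiniteBiproductsOfAdditive _
  haveI := preservesBinaryBiproducts_of_preservesBiproducts (DerivedCategory.Q (C := C))
  refine ⟨?_, ?_⟩
  · rintro ⟨⟨E', hP', hz', ⟨e'⟩⟩, ⟨E'', hP'', hz'', ⟨e''⟩⟩⟩
    refine ⟨E' ⊞ E'', fun i => ?_, fun i hi => ?_,
      ⟨(DerivedCategory.Q.mapBiprod E' E'') ≪≫ biprod.mapIso e' e''⟩⟩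
    · obtain ⟨e⟩ := biprodX E' E'' i
      exact hA.of_iso e.symm (hA.biprod (hP' i) (hP'' i))
    · obtain ⟨e⟩ := biprodX E' E'' i
      exact ((biprod_isZero_iff _ _).2 ⟨hz' i hi, hz'' i hi⟩).of_iso e
  · intro hfac h
    obtain ⟨E, hPE, hE, ⟨e⟩⟩ := h
    have hqs := quasiStable_of_stableKer hA hst
    have hql := quasiLiftable_of_liftable hl
    have hsplit := (pcn_biprod_iff hA hqs hql a F' F'').1
      ⟨E, ⟨⟨b, fun i hi => hE i (Or.inr hi)⟩, fun i _ => hPE i⟩, ⟨e⟩⟩
    have hhom : ∀ i, i < a ∨ b < i →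
        IsZero ((DerivedCategory.homologyFunctor C i).obj (F' ⊞ F'')) := fun i hi =>
      isZero_homologyFunctor_of_iso e
        ((exactAt_iff_isZero_homology _ _).1 (HomologicalComplex.ExactAt.of_isZero (hE i hi)))
    have mk : ∀ (X : DerivedCategory C), PCn P a X →
        (∀ i, i < a ∨ b < i → IsZero ((DerivedCategory.homologyFunctor C i).obj X)) →
        ∃ A : CochainComplex C ℤ, (∀ i, i < a ∨ b < i → IsZero (A.X i)) ∧
          (∀ i, a < i → P (A.X i)) ∧ Nonempty (DerivedCategory.Q.obj A ≅ X) := by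
      intro X hX hX0
      obtain ⟨K, hK, hK0, ⟨eK⟩⟩ := exists_vanishing_above hA hqs hql (m := b + 1) hX
        (fun i hi => hX0 i (Or.inr (by omega)))
      haveI : K.IsGE a := by
        rw [CochainComplex.isGE_iff]
        exact fun i hi => (exactAt_iff_isZero_homology _ _).2
          (isZero_homology_of_iso eK (hX0 i (Or.inl hi)))
      refine ⟨K.truncGE a, fun i hi => ?_, fun i hi => ?_,
        ⟨(asIso (DerivedCategory.Q.map (K.πTruncGE a))).symm ≪≫ eK⟩⟩
      · rcases hi with hi | hi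
        · exact CochainComplex.isZero_of_isStrictlyGE _ a i hi
        · exact (hK0 i (by omega)).of_iso (K.truncGEXIso a i (by omega))
      · exact hA.of_iso (K.truncGEXIso a i hi).symm (hK.2 i hi.le)
    obtain ⟨A, hA0, hAP, ⟨eA⟩⟩ := mk F' hsplit.1 fun i hi =>
      isZero_homology_retract biprod.inl biprod.fst biprod.inl_fst (hhom i hi)
    obtain ⟨B, hB0, hBP, ⟨eB⟩⟩ := mk F'' hsplit.2 fun i hi =>
      isZero_homology_retract biprod.inr biprod.snd biprod.inr_snd (hhom i hi)
    have hfirst : P ((A ⊞ B).X a) := by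
      refine prop_first_term hA hl hst a b hab (A ⊞ B) (fun i hi => ?_) (fun i hi => ?_)
        ⟨E, hPE, hE, ⟨e ≪≫ (biprod.mapIso eA eB).symm ≪≫ (DerivedCategory.Q.mapBiprod A B).symm⟩⟩
      · obtain ⟨e'⟩ := biprodX A B i
        exact ((biprod_isZero_iff _ _).2 ⟨hA0 i hi, hB0 i hi⟩).of_iso e'
      · obtain ⟨e'⟩ := biprodX A B i
        exact hA.of_iso e'.symm (hA.biprod (hAP i hi) (hBP i hi))
    obtain ⟨ea⟩ := biprodX A B a
    obtain ⟨ha', ha''⟩ := hfac _ _ (hA.of_iso ea hfirst)
    refine ⟨⟨A, fun i => ?_, hA0, ⟨eA⟩⟩, ⟨B, fun i => ?_, hB0, ⟨eB⟩⟩⟩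
    · rcases lt_trichotomy i a with h | h | h
      · exact hA.zero _ (hA0 i (Or.inl h))
      · exact h ▸ ha'
      · exact hAP i h
    · rcases lt_trichotomy i a with h | h | h
      · exact hA.zero _ (hB0 i (Or.inl h))
      · exact h ▸ ha''
      · exact hBP i h

end Groth.PCohPunctual
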