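import Groth.Agent.PCohPunctual.Infinite
import Mathlib.Algebra.Homology.DerivedCategory.TStructure
import Mathlib.Algebra.Homology.DerivedCategory.FullyFaithful
import Mathlib.Algebra.Homology.DerivedCategory.SingleTriangle

/-!
# Pseudo-coherence (punctual case): devissage
-/

set_option autoImplicit false
set_option linter.unusedSectionVars false
set_option linter.style.haveILetI false

universe w' v' u' w v u

open CategoryTheory CategoryTheory.Limits CochainComplex HomologicalComplex
open CategoryTheory.Pretriangulated DerivedCategory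

namespace Groth.PCohPunctual

variable {C : Type u} [Category.{v} C] [Abelian C] [HasDerivedCategory.{w} C]
variable {P : ObjectProperty C}

/-- `H^i (F⟦k⟧) ≅ H^{k+i} F`. -/
noncomputable def hShiftIso (F : DerivedCategory C) (k i : ℤ) :
    (DerivedCategory.homologyFunctor C i).obj
        ((CategoryTheory.shiftFunctor (DerivedCategory C) k).obj F) ≅
      (DerivedCategory.homologyFunctor C (k + i)).obj F :=
  ((DerivedCategory.homologyFunctor C 0).shiftIso k i (k + i) rfl).app F

/-- `(single 0 X)⟦-i⟧ ≅ single i X`. -/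
noncomputable def singleShiftIso (X : C) (i : ℤ) :
    (CategoryTheory.shiftFunctor (DerivedCategory C) (-i)).obj
        ((DerivedCategory.singleFunctor C 0).obj X) ≅ (DerivedCategory.singleFunctor C i).obj X :=
  ((DerivedCategory.singleFunctors C).shiftIso (-i) i 0 (by omega)).app X

theorem pcn_single_of_zero {n i : ℤ} {X : C}
    (h : PCn P (n - i) ((DerivedCategory.singleFunctor C 0).obj X)) :
    PCn P n ((DerivedCategory.singleFunctor C i).obj X) := by
  have := (h.shift (-i)).of_iso (singleShiftIso X i)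
  rwa [show n - i - -i = n by omega] at this

theorem homology_single_isZero (X : C) {n i : ℤ} (hi : i ≠ n) :
    IsZero ((DerivedCategory.homologyFunctor C i).obj
      ((DerivedCategory.singleFunctor C n).obj X)) :=
  isZero_homologyFunctor_of_iso (Iso.refl _)
    (HomologicalComplex.isZero_single_obj_homology (ComplexShape.up ℤ) n X i hi)

/-- `H^n (single n X) ≅ X`. -/
noncomputable def homologySingleIso (X : C) (n : ℤ) :
    (DerivedCategory.homologyFunctor C n).obj
      ((DerivedCategory.singleFunctor C n).obj X) ≅ X :=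
  (DerivedCategory.singleFunctorCompHomologyFunctorIso C n).app X

theorem isZero_homology₁ {T : Triangle (DerivedCategory C)} (hT : T ∈ distinguishedTriangles)
    {i j : ℤ} (hij : i + 1 = j) (h₂ : IsZero ((DerivedCategory.homologyFunctor C j).obj T.obj₂))
    (h₃ : IsZero ((DerivedCategory.homologyFunctor C i).obj T.obj₃)) :
    IsZero ((DerivedCategory.homologyFunctor C j).obj T.obj₁) :=
  (DerivedCategory.HomologySequence.exact₁ T hT i j hij).isZero_of_both_zeros
    (h₃.eq_of_src _ _) (h₂.eq_of_tgt _ _)

theorem isZero_homology₃ {T : Triangle (DerivedCategory C)} (hT : T ∈ distinguishedTriangles)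
    {i j : ℤ} (hij : i + 1 = j) (h₂ : IsZero ((DerivedCategory.homologyFunctor C i).obj T.obj₂))
    (h₁ : IsZero ((DerivedCategory.homologyFunctor C j).obj T.obj₁)) :
    IsZero ((DerivedCategory.homologyFunctor C i).obj T.obj₃) :=
  (DerivedCategory.HomologySequence.exact₃ T hT i j hij).isZero_of_both_zeros
    (h₂.eq_of_src _ _) (h₁.eq_of_tgt _ _)

theorem isZero_homology_cone {T : Triangle (DerivedCategory C)} (hT : T ∈ distinguishedTriangles)
    {n i : ℤ} (h : DNQis T.mor₁ n) (hi : n ≤ i) :
    IsZero ((DerivedCategory.homologyFunctor C i).obj T.obj₃) := by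
  have he : Epi ((DerivedCategory.homologyFunctor C i).map T.mor₁) := by
    rcases hi.eq_or_lt with rfl | hlt
    · exact h.2
    · haveI := h.1 i hlt; infer_instance
  have hm : Mono ((DerivedCategory.homologyFunctor C (i + 1)).map T.mor₁) := by
    haveI := h.1 (i + 1) (by omega); infer_instance
  exact (DerivedCategory.HomologySequence.exact₃ T hT i (i + 1) rfl).isZero_of_both_zeros
    ((DerivedCategory.HomologySequence.epi_homologyMap_mor₁_iff T hT i).1 he)
    ((DerivedCategory.HomologySequence.mono_homologyMap_mor₁_iff T hT i (i + 1) rfl).1 hm)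

/-- Devissage of a bounded above complex by its terms. -/
theorem termwise_induction (Φ : DerivedCategory C → Prop)
    (hiso : ∀ X Y, (X ≅ Y) → Φ X → Φ Y)
    (hext : ∀ T : Triangle (DerivedCategory C), T ∈ distinguishedTriangles →
      Φ T.obj₁ → Φ T.obj₃ → Φ T.obj₂)
    (n : ℤ)
    (hbase : ∀ G : CochainComplex C ℤ, (∀ i, n ≤ i → IsZero (G.X i)) → Φ (DerivedCategory.Q.obj G))
    (F : CochainComplex C ℤ) (b : ℤ) (hb : ∀ i, b < i → IsZero (F.X i))
    (hF : ∀ i, n ≤ i → Φ ((DerivedCategory.singleFunctor C i).obj (F.X i))) :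
    Φ (DerivedCategory.Q.obj F) := by
  have hbase0 : ∀ (i : ℤ) {X : C}, IsZero X →
      Φ ((DerivedCategory.singleFunctor C i).obj X) := fun i X hX => by
    refine hbase _ fun j _ => ?_
    by_cases h : j = i
    · subst h; exact hX.of_iso (singleObjXSelf (ComplexShape.up ℤ) j X)
    · exact isZero_single_obj_X _ _ _ _ h
  suffices ∀ (k : ℕ) (b : ℤ), b < n + k → ∀ F : CochainComplex C ℤ,
      (∀ i, b < i → IsZero (F.X i)) →
      (∀ i, n ≤ i → Φ ((DerivedCategory.singleFunctor C i).obj (F.X i))) →
      Φ (DerivedCategory.Q.obj F) from this (b + 1 - n).toNat b (by omega) F hb hF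
  intro k
  induction k with
  | zero => intro b hbn F hb _; exact hbase F fun i hi => hb i (by omega)
  | succ k ih =>
    intro b hbn F hb hF
    rcases lt_or_ge b n with hlt | hge
    · exact hbase F fun i hi => hb i (by omega)
    let f : (HomologicalComplex.single C (ComplexShape.up ℤ) b).obj (F.X b) ⟶ F :=
      mkHomFromSingle (𝟙 _) (by rintro j rfl; exact (hb _ (by omega)).eq_of_tgt _ _)
    have hfb : IsIso (f.f b) := by
      simp only [f, mkHomFromSingle_f, Category.comp_id]
      infer_instance
    haveI : ∀ i, Mono (f.f i) := fun i => by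
      by_cases h : i = b
      · subst h; infer_instance
      · exact ⟨fun _ _ _ => (isZero_single_obj_X (ComplexShape.up ℤ) b (F.X b) i h).eq_of_tgt _ _⟩
    haveI : Mono f := HomologicalComplex.mono_of_mono_f f inferInstance
    let S := ShortComplex.mk f (cokernel.π f) (cokernel.condition f)
    have hS : S.ShortExact :=
      { exact := ShortComplex.exact_of_g_is_cokernel S (cokernelIsCokernel f) }
    have hSi := fun i => hS.map_of_exact (HomologicalComplex.eval C (ComplexShape.up ℤ) i)
    have hzero : IsZero (S.X₃.X b) := by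
      haveI := (hSi b).epi_g
      haveI : Epi ((cokernel.π f).f b) := (hSi b).epi_g
      have h0 : (cokernel.π f).f b = 0 := by
        haveI := hfb
        rw [← cancel_epi (f.f b), comp_zero, ← comp_f, cokernel.condition, zero_f]
      exact IsZero.of_epi_eq_zero _ h0
    have hiso' : ∀ i, i ≠ b → IsIso ((cokernel.π f).f i) := fun i hi =>
      (ShortComplex.ShortExact.isIso_g_iff (hSi i)).2 (isZero_single_obj_X (ComplexShape.up ℤ) b (F.X b) i hi)
    refine hext _ (DerivedCategory.triangleOfSES_distinguished hS) (hF b hge)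
      (ih (b - 1) (by omega) S.X₃ (fun i hi => ?_) fun i hi => ?_)
    · by_cases h : i = b
      · subst h; exact hzero
      · haveI := hiso' i h
        exact (hb i (by omega)).of_iso (asIso ((cokernel.π f).f i)).symm
    · by_cases h : i = b
      · subst h
        exact hbase0 i hzero
      · haveI := hiso' i h
        exact hiso _ _ ((DerivedCategory.singleFunctor C i).mapIso
          (asIso ((cokernel.π f).f i))) (hF i hi)

/-- Devissage of an object of `D(C)` by its cohomology. -/
theorem homology_induction (Φ : DerivedCategory C → Prop)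
    (hiso : ∀ X Y, (X ≅ Y) → Φ X → Φ Y)
    (hext : ∀ T : Triangle (DerivedCategory C), T ∈ distinguishedTriangles →
      Φ T.obj₁ → Φ T.obj₃ → Φ T.obj₂)
    (n : ℤ)
    (hbase : ∀ G : DerivedCategory C,
      (∀ i, n ≤ i → IsZero ((DerivedCategory.homologyFunctor C i).obj G)) → Φ G)
    (F : DerivedCategory C) (b : ℤ)
    (hb : ∀ i, b < i → IsZero ((DerivedCategory.homologyFunctor C i).obj F))
    (hF : ∀ i, n ≤ i → Φ ((DerivedCategory.singleFunctor C i).obj
      ((DerivedCategory.homologyFunctor C i).obj F))) : Φ F := by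
  suffices ∀ (k : ℕ) (b : ℤ), b < n + k → ∀ F : DerivedCategory C,
      (∀ i, b < i → IsZero ((DerivedCategory.homologyFunctor C i).obj F)) →
      (∀ i, n ≤ i → Φ ((DerivedCategory.singleFunctor C i).obj
        ((DerivedCategory.homologyFunctor C i).obj F))) → Φ F from
    this (b + 1 - n).toNat b (by omega) F hb hF
  intro k
  induction k with
  | zero => intro b hbn F hb _; exact hbase F fun i hi => hb i (by omega)
  | succ k ih =>
    intro b hbn F hb hF
    rcases lt_or_ge b n with hlt | hge
    · exact hbase F fun i hi => hb i (by omega)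
    obtain ⟨X, Y, hX, hY, f, g, h, hT⟩ :=
      DerivedCategory.TStructure.t.exists_triangle F (b - 1) b (by omega)
    haveI : X.IsLE (b - 1) := ⟨hX⟩
    haveI hYge : Y.IsGE b := ⟨hY⟩
    have hX0 : ∀ i, b ≤ i → IsZero ((DerivedCategory.homologyFunctor C i).obj X) := fun i hi =>
      DerivedCategory.isZero_of_isLE X (b - 1) i (by omega)
    have hY0 : ∀ i, i < b → IsZero ((DerivedCategory.homologyFunctor C i).obj Y) := fun i hi =>
      DerivedCategory.isZero_of_isGE Y b i hi
    haveI : Y.IsLE b := (DerivedCategory.isLE_iff Y b).2 fun i hi =>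
      isZero_homology₃ hT (j := i + 1) rfl (hb i hi) (hX0 _ (by omega))
    have hg : IsIso ((DerivedCategory.homologyFunctor C b).map g) := by
      haveI : Mono ((DerivedCategory.homologyFunctor C b).map g) :=
        (DerivedCategory.HomologySequence.mono_homologyMap_mor₂_iff _ hT b).2
          ((hX0 b le_rfl).eq_of_src _ _)
      haveI : Epi ((DerivedCategory.homologyFunctor C b).map g) :=
        (DerivedCategory.HomologySequence.epi_homologyMap_mor₂_iff _ hT b (b + 1) rfl).2
          ((hX0 (b + 1) (by omega)).eq_of_tgt _ _)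
      exact isIso_of_mono_of_epi _
    have hf : ∀ i, i < b → IsIso ((DerivedCategory.homologyFunctor C i).map f) := fun i hi => by
      haveI : Mono ((DerivedCategory.homologyFunctor C i).map f) :=
        (DerivedCategory.HomologySequence.mono_homologyMap_mor₁_iff _ hT (i - 1) i (by omega)).2
          ((hY0 (i - 1) (by omega)).eq_of_src _ _)
      haveI : Epi ((DerivedCategory.homologyFunctor C i).map f) :=
        (DerivedCategory.HomologySequence.epi_homologyMap_mor₁_iff _ hT i).2
          ((hY0 i hi).eq_of_tgt _ _)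
      exact isIso_of_mono_of_epi _
    obtain ⟨Z, ⟨eZ⟩⟩ := DerivedCategory.exists_iso_singleFunctor_obj_of_isGE_of_isLE Y b
    have hΦY : Φ Y := hiso _ _ eZ.symm (hiso _ _ ((DerivedCategory.singleFunctor C b).mapIso
      (asIso ((DerivedCategory.homologyFunctor C b).map g) ≪≫
        (DerivedCategory.homologyFunctor C b).mapIso eZ ≪≫ homologySingleIso Z b)) (hF b hge))
    refine hext _ hT (ih (b - 1) (by omega) X (fun i hi => hX0 i (by omega)) fun i hi => ?_) hΦY
    rcases lt_or_ge i b with hib | hib
    · haveI := hf i hib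
      exact hiso _ _ ((DerivedCategory.singleFunctor C i).mapIso
        (asIso ((DerivedCategory.homologyFunctor C i).map f)).symm) (hF i hi)
    · refine hbase _ fun j _ => ?_
      by_cases hji : j = i
      · subst hji; exact (hX0 j hib).of_iso (homologySingleIso _ j)
      · exact homology_single_isZero _ hji

/-- `S5619` -/
theorem pcn_of_termwise (hA : IsAdditiveSub P) (hqs : PCoh.IsQuasiStableUnderKernels P)
    (hql : PCoh.IsQuasiLiftable P) {n : ℤ} (F : CochainComplex C ℤ) (b : ℤ)
    (hb : ∀ i, b < i → IsZero (F.X i))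
    (hF : ∀ i, n ≤ i → PCn P (n - i) ((DerivedCategory.singleFunctor C 0).obj (F.X i))) :
    PCn P n (DerivedCategory.Q.obj F) :=
  termwise_induction (PCn P n) (fun _ _ e h => h.of_iso e) (fun _ hT => PCn.ext hA hqs hql hT) n
    (fun _ hG => pcn_of_isZero hA hql fun i hi => isZero_homologyFunctor_of_iso (Iso.refl _)
      ((exactAt_iff_isZero_homology _ _).1 (HomologicalComplex.ExactAt.of_isZero (hG i hi))))
    F b hb fun i hi => pcn_single_of_zero (hF i hi)

/-- `S5604` -/
theorem pcn_of_homology (hA : IsAdditiveSub P) (hqs : PCoh.IsQuasiStableUnderKernels P)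
    (hql : PCoh.IsQuasiLiftable P) {n : ℤ} (F : DerivedCategory C) (b : ℤ)
    (hb : ∀ i, b < i → IsZero ((DerivedCategory.homologyFunctor C i).obj F))
    (hF : ∀ i, n ≤ i → PCn P (n - i) ((DerivedCategory.singleFunctor C 0).obj
      ((DerivedCategory.homologyFunctor C i).obj F))) : PCn P n F :=
  homology_induction (PCn P n) (fun _ _ e h => h.of_iso e) (fun _ hT => PCn.ext hA hqs hql hT) n
    (fun _ hG => pcn_of_isZero hA hql hG) F b hb fun i hi => pcn_single_of_zero (hF i hi)

/-- `S5607` -/
theorem pcn_iff_of_intermediate (hA : IsAdditiveSub P) (hqs : PCoh.IsQuasiStableUnderKernels P)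
    (hql : PCoh.IsQuasiLiftable P) {P₁ : ObjectProperty C} (hle : ∀ X : C, P X → P₁ X)
    (hpc : ∀ X : C, P₁ X → PCoh.IsPC P ((DerivedCategory.singleFunctor C 0).obj X)) (n : ℤ)
    (F : DerivedCategory C) : PCn P₁ n F ↔ PCn P n F := by
  constructor
  · rintro ⟨E, ⟨⟨b, hb⟩, hP⟩, ⟨e⟩⟩
    exact (pcn_of_termwise hA hqs hql E b hb fun i hi => hpc _ (hP i hi) (n - i)).of_iso e
  · rintro ⟨E, ⟨hb, hP⟩, e⟩
    exact ⟨E, ⟨hb, fun i hi => hle _ (hP i hi)⟩, e⟩

theorem ft_of_pcn_single (hqs : PCoh.IsQuasiStableUnderKernels P) {X : C}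
    (h : PCn P 0 ((DerivedCategory.singleFunctor C 0).obj X)) : PCoh.IsOfFiniteType P X :=
  ft_of_iso (homologySingleIso X 0)
    (ft_of_pcn hqs (fun i hi => homology_single_isZero X (by omega)) h)

theorem pcn_single_of_ft (hA : IsAdditiveSub P) (hql : PCoh.IsQuasiLiftable P) {X : C}
    (h : PCoh.IsOfFiniteType P X) : PCn P 0 ((DerivedCategory.singleFunctor C 0).obj X) :=
  pcn_of_ft hA hql (fun i hi => homology_single_isZero X (by omega))
    (ft_of_iso (homologySingleIso X 0).symm h)

/-- `S5606` -/
theorem quasiLiftable_quasiStable_of_intermediate (hA : IsAdditiveSub P)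
    (hqs : PCoh.IsQuasiStableUnderKernels P) (hql : PCoh.IsQuasiLiftable P)
    {P₁ : ObjectProperty C} (hle : ∀ X : C, P X → P₁ X)
    (hpc : ∀ X : C, P₁ X → PCoh.IsPC P ((DerivedCategory.singleFunctor C 0).obj X)) :
    PCoh.IsQuasiLiftable P₁ ∧ PCoh.IsQuasiStableUnderKernels P₁ := by
  constructor
  · intro E F u hu hF
    obtain ⟨E', z, hE', hz⟩ := exists_epi_lift hql u (ft_of_pcn_single hqs (hpc F hF 0))
    exact ⟨E', z, hle _ hE', hz⟩
  · rintro K hex ⟨N, hN⟩ hP
    haveI hepi : ∀ i, Epi (K.toCycles i (i + 1)) := fun i => by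
      rw [epi_iff_surjective_up_to_refinements]
      intro A y
      obtain ⟨A', π, hπ, x, hx⟩ :=
        (K.exactAt_iff_exact_up_to_refinements i (i + 1) (i + 1 + 1) (by simp) (by simp)).1
          (hex (i + 1)) (y ≫ K.iCycles (i + 1)) (by simp)
      exact ⟨A', π, hπ, x, by simp [← cancel_mono (K.iCycles (i + 1)), hx]⟩
    have main : ∀ (k i : ℕ), 1 ≤ i → N + 1 ≤ i + k →
        PCoh.IsPC P ((DerivedCategory.singleFunctor C 0).obj (K.cycles i)) := by
      intro k
      induction k with
      | zero =>
        intro i _ hi m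
        refine pcn_of_isZero hA hql fun j _ =>
          (DerivedCategory.homologyFunctor C j).map_isZero
            ((DerivedCategory.singleFunctor C 0).map_isZero ?_)
        exact IsZero.of_mono_eq_zero (K.iCycles i) ((hN i (by omega)).eq_of_tgt _ _)
      | succ k ih =>
        intro i h1 hi m
        have hS : (ShortComplex.mk (K.iCycles i) (K.toCycles i (i + 1))
            (by simp [← cancel_mono (K.iCycles (i + 1))])).ShortExact := by
          refine { exact := ?_ }
          rw [ShortComplex.exact_iff_exact_up_to_refinements]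
          intro A x hx
          have hx' : x ≫ K.d i (i + 1) = 0 := by
            change x ≫ K.toCycles i (i + 1) = 0 at hx
            simpa [Category.assoc] using hx =≫ K.iCycles (i + 1)
          exact ⟨A, 𝟙 A, inferInstance, K.liftCycles x (i + 1) (by simp) hx', by simp⟩
        have h := PCn.fiber (n := m - 1) hA hqs hql hS.singleTriangle_distinguished
          (PCn.mono (hpc _ (hP i h1) (m - 1)) (by omega)) (ih (i + 1) (by omega) (by omega) (m - 1))
        rw [show m - 1 + 1 = m by omega] at h
        exact h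
    haveI : Mono (K.d 0 (0 + 1)) := by
      have := hex 0
      rw [K.exactAt_iff' 0 0 1 (by simp) (by simp)] at this
      exact this.mono_g (K.shape 0 0 (by simp))
    haveI : Mono (K.toCycles 0 (0 + 1)) := mono_of_mono_fac (K.toCycles_i 0 (0 + 1))
    haveI := hepi 0
    haveI : IsIso (K.toCycles 0 (0 + 1)) := isIso_of_mono_of_epi _
    obtain ⟨E, p, hE, hp⟩ := ft_of_iso (asIso (K.toCycles 0 (0 + 1))).symm
      (ft_of_pcn_single hqs (main N (0 + 1) le_rfl (by omega) 0))
    exact ⟨E, p, hle _ hE, hp⟩

/-- `S5608`: coherent objects are pseudo-coherent. -/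
theorem isPC_of_coherent (hA : IsAdditiveSub P) (hqs : PCoh.IsQuasiStableUnderKernels P)
    (hql : PCoh.IsQuasiLiftable P) (hcoh : ∀ X : C, P X → IsPrecoherent P X)
    {X : C} (h₁ : PCoh.IsOfFiniteType P X) (h₂ : IsPrecoherent P X) :
    PCoh.IsPC P ((DerivedCategory.singleFunctor C 0).obj X) := by
  suffices ∀ (k : ℕ) (X : C), PCoh.IsOfFiniteType P X → IsPrecoherent P X →
      PCn P (-(k : ℤ)) ((DerivedCategory.singleFunctor C 0).obj X) from
    fun m => PCn.mono (this (-m).toNat X h₁ h₂) (by omega)
  intro k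
  induction k with
  | zero => intro X h _; simpa using pcn_single_of_ft hA hql h
  | succ k ih =>
    intro X h₁ h₂
    obtain ⟨E, p, hE, hp⟩ := h₁
    have hS : (ShortComplex.mk (kernel.ι p) p (kernel.condition p)).ShortExact :=
      { exact := ShortComplex.exact_of_f_is_kernel _ (kernelIsKernel p) }
    refine PCn.cone hA hqs hql hS.singleTriangle_distinguished ?_ ?_
    · have := ih (kernel p) (h₂ E p hE) (precoherent_of_mono (kernel.ι p) (hcoh E hE))
      rwa [show -((k + 1 : ℕ) : ℤ) + 1 = -(k : ℤ) by omega]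
    · exact ⟨(HomologicalComplex.single C (ComplexShape.up ℤ) 0).obj E,
        ⟨⟨0, fun i hi => isZero_single_obj_X _ _ _ _ (by omega)⟩, fun i _ => by
          by_cases h : i = 0
          · subst h; exact hA.of_iso (singleObjXSelf (ComplexShape.up ℤ) 0 E).symm hE
          · exact hA.zero _ (isZero_single_obj_X _ _ _ _ h)⟩, ⟨Iso.refl _⟩⟩

theorem quasiStable_of_coherent
    (hcoh : ∀ X : C, P X → IsPrecoherent P X) : PCoh.IsQuasiStableUnderKernels P := by
  rintro K hex ⟨N, hN⟩ hP
  have h1 := hex 1
  haveI : Mono (K.d 0 1) := by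
    have := hex 0
    rw [K.exactAt_iff' 0 0 1 (by simp) (by simp)] at this
    exact this.mono_g (K.shape 0 0 (by simp))
  rw [K.exactAt_iff' 0 1 2 (by simp) (by simp)] at h1
  haveI : Mono (K.sc' 0 1 2).f := ‹Mono (K.d 0 1)›
  exact ft_kernel_of_precoherent h1 (ft_of_prop (hP 1 le_rfl)) (hcoh _ (hP 2 (by omega)))

/-- `S5608` -/
theorem pcn_iff_coherent_homology (hA : IsAdditiveSub P) (hql : PCoh.IsQuasiLiftable P)
    (hcoh : ∀ X : C, P X → IsPrecoherent P X) (n : ℤ) (F : DerivedCategory C) (b : ℤ)
    (hb : ∀ i : ℤ, b < i → IsZero ((DerivedCategory.homologyFunctor C i).obj F)) :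
    PCn P n F ↔ (PCoh.IsOfFiniteType P ((DerivedCategory.homologyFunctor C n).obj F) ∧
      ∀ i : ℤ, n < i → (PCoh.IsOfFiniteType P ((DerivedCategory.homologyFunctor C i).obj F) ∧
        IsPrecoherent P ((DerivedCategory.homologyFunctor C i).obj F))) := by
  have hqs := quasiStable_of_coherent hcoh
  constructor
  · rintro ⟨E, ⟨-, hP⟩, ⟨e⟩⟩
    have hcy : ∀ i, n ≤ i → PCoh.IsOfFiniteType P (E.cycles i) := fun i hi => by
      have hex : (ShortComplex.mk (E.iCycles i) (E.d i (i + 1)) (by simp)).Exact :=
        ShortComplex.exact_of_f_is_kernel _ (E.cyclesIsKernel i (i + 1) (by simp))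
      exact ft_kernel_of_precoherent hex (ft_of_prop (hP i hi)) (hcoh _ (hP _ (by omega)))
    have hH : ∀ i, (DerivedCategory.homologyFunctor C i).obj F ≅ E.homology i := fun i =>
      (DerivedCategory.homologyFunctor C i).mapIso e.symm ≪≫ hQIso E i
    refine ⟨ft_of_iso (hH n).symm (ft_of_epi (E.homologyπ n) (hcy n le_rfl)),
      fun i hi => ⟨ft_of_iso (hH i).symm (ft_of_epi (E.homologyπ i) (hcy i hi.le)),
        precoherent_of_mono (hH i).hom ?_⟩⟩
    exact precoherent_of_exact hA hql
      (S := ShortComplex.mk (E.toCycles (i - 1) i) (E.homologyπ i) (by simp))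
      (ShortComplex.exact_of_g_is_cokernel _ (E.homologyIsCokernel (i - 1) i (by simp)))
      (ft_of_prop (hP (i - 1) (by omega)))
      (precoherent_of_mono (E.iCycles i) (hcoh _ (hP i hi.le)))
  · rintro ⟨hn, hgt⟩
    refine pcn_of_homology hA hqs hql F b hb fun i hi => ?_
    rcases hi.eq_or_lt with rfl | hlt
    · simpa using pcn_single_of_ft hA hql hn
    · exact isPC_of_coherent hA hqs hql hcoh (hgt i hlt).1 (hgt i hlt).2 (n - i)

section Functor

variable {C' : Type u'} [Category.{v'} C'] [Abelian C'] [HasDerivedCategory.{w'} C']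
variable {P' : ObjectProperty C'}

/-- `S5620` -/
theorem pcn_map (hA : IsAdditiveSub P) (hqs : PCoh.IsQuasiStableUnderKernels P)
    (hql : PCoh.IsQuasiLiftable P) (hA' : IsAdditiveSub P')
    (hqs' : PCoh.IsQuasiStableUnderKernels P') (hql' : PCoh.IsQuasiLiftable P')
    (u : DerivedCategory C ⥤ DerivedCategory C') [u.CommShift ℤ] [u.IsTriangulated] (a b : ℤ)
    (hi : ∀ E : C, P E → PCn P' a (u.obj ((DerivedCategory.singleFunctor C 0).obj E)))
    (hii : ∀ F : DerivedCategory C,
      (∀ i : ℤ, 0 < i → IsZero ((DerivedCategory.homologyFunctor C i).obj F)) →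
      ∀ i : ℤ, b < i → IsZero ((DerivedCategory.homologyFunctor C' i).obj (u.obj F)))
    (m n : ℤ) (F : DerivedCategory C) (hF : PCn P m F)
    (hac : ∀ i : ℤ, n < i → IsZero ((DerivedCategory.homologyFunctor C i).obj F)) :
    PCn P' (max (m + b) (n + a)) (u.obj F) ∧
      ∀ i : ℤ, n + b < i → IsZero ((DerivedCategory.homologyFunctor C' i).obj (u.obj F)) := by
  have key : ∀ (k : ℤ) (G : DerivedCategory C),
      (∀ i : ℤ, k < i → IsZero ((DerivedCategory.homologyFunctor C i).obj G)) →
      ∀ i : ℤ, k + b < i → IsZero ((DerivedCategory.homologyFunctor C' i).obj (u.obj G)) := by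
    intro k G hG i hi'
    have h := hii ((CategoryTheory.shiftFunctor (DerivedCategory C) k).obj G)
      (fun j hj => (hG (k + j) (by omega)).of_iso (hShiftIso G k j)) (i - k) (by omega)
    have h' := h.of_iso (((DerivedCategory.homologyFunctor C' (i - k)).mapIso
      ((u.commShiftIso k).app G)) ≪≫ hShiftIso (u.obj G) k (i - k)).symm
    rwa [show k + (i - k) = i by omega] at h'
  refine ⟨?_, key n F hac⟩
  obtain ⟨N, hN, hN₁, hN₂⟩ : ∃ N, max (m + b) (n + a) = N ∧ m + b ≤ N ∧ n + a ≤ N :=
    ⟨_, rfl, le_max_left _ _, le_max_right _ _⟩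
  rw [hN]
  rcases lt_or_ge n m with hnm | hmn
  · exact pcn_of_isZero hA' hql' fun i hi' => key n F hac i (by omega)
  obtain ⟨K, α, hz, hP, hα⟩ :=
    exists_strictPerfect_dnqis hA hqs hql hF (n + 1) (by omega) (fun i hi' => hac i (by omega))
  obtain ⟨G, g, h, hT⟩ := Pretriangulated.distinguished_cocone_triangle α
  refine PCn.ext hA' hqs' hql' (u.map_distinguished _ hT) ?_ ?_
  · refine termwise_induction (fun X => PCn P' N (u.obj X)) (fun _ _ e h => h.of_iso (u.mapIso e))
      (fun T hT => PCn.ext hA' hqs' hql' (u.map_distinguished T hT)) m ?_ K n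
      (fun i hi' => hz i (Or.inr (by omega))) ?_
    · intro H hH
      refine pcn_of_isZero hA' hql' fun i hi' => key (m - 1) _ (fun j hj => ?_) i (by omega)
      exact isZero_homologyFunctor_of_iso (Iso.refl _)
        ((exactAt_iff_isZero_homology _ _).1 (HomologicalComplex.ExactAt.of_isZero (hH j (by omega))))
    · intro i hi'
      by_cases hin : i ≤ n
      · refine PCn.mono ((PCn.shift (hi _ (hP i)) (-i)).of_iso ?_) (by omega : a - -i ≤ N)
        exact ((u.commShiftIso (-i)).app _).symm ≪≫ u.mapIso (singleShiftIso (K.X i) i)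
      · refine pcn_of_isZero hA' hql' fun j hj => key (m - 1) _ (fun l _ => ?_) j (by omega)
        by_cases hli : l = i
        · subst hli; exact (hz l (Or.inr (by omega))).of_iso (homologySingleIso _ l)
        · exact homology_single_isZero _ hli
  · exact pcn_of_isZero hA' hql' fun i hi' => key (m - 1) G
      (fun j hj => isZero_homology_cone hT hα (by omega)) i (by omega)

end Functor

end Groth.PCohPunctual
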