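import Groth.Prelude.Def_PCoh
import Mathlib.Algebra.Homology.Refinements
import Mathlib.CategoryTheory.Abelian.Basic

/-!
# Pseudo-coherence (punctual case): finite type and precoherent objects
-/

set_option autoImplicit false

universe v u

open CategoryTheory CategoryTheory.Limits

namespace Groth.PCohPunctual

set_option linter.unusedSectionVars false
set_option linter.style.haveILetI false

variable {C : Type u} [Category.{v} C] [Abelian C]

/-- An additive strictly full subcategory. -/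
structure IsAdditiveSub (P : ObjectProperty C) : Prop where
  closedIso : P.IsClosedUnderIsomorphisms
  zero : ∀ X : C, IsZero X → P X
  prod : ∀ X Y : C, P X → P Y → P (X ⨯ Y)

variable {P : ObjectProperty C}

theorem IsAdditiveSub.mk' [P.IsClosedUnderIsomorphisms] [P.ContainsZero]
    (hsum : ∀ X Y : C, P X → P Y → P (X ⨯ Y)) : IsAdditiveSub P := by
  refine ⟨inferInstance, fun X hX => ?_, hsum⟩
  obtain ⟨Z, hZ, hP⟩ := ObjectProperty.ContainsZero.exists_zero (P := P)
  exact ObjectProperty.prop_of_iso P (hZ.iso hX) hP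

theorem IsAdditiveSub.of_iso (hA : IsAdditiveSub P) {X Y : C} (e : X ≅ Y) (h : P X) : P Y :=
  haveI := hA.closedIso
  ObjectProperty.prop_of_iso P e h

theorem IsAdditiveSub.biprod (hA : IsAdditiveSub P) {X Y : C} (hX : P X) (hY : P Y) :
    P (X ⊞ Y) :=
  hA.of_iso (biprod.isoProd X Y).symm (hA.prod X Y hX hY)

variable (P) in
/-- Precoherent objects relative to `P`. -/
def IsPrecoherent (X : C) : Prop :=
  ∀ (E : C) (u : E ⟶ X), P E → PCoh.IsOfFiniteType P (kernel u)

theorem ft_of_prop {X : C} (h : P X) : PCoh.IsOfFiniteType P X :=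
  ⟨X, 𝟙 X, h, inferInstance⟩

theorem ft_of_epi {X Y : C} (f : X ⟶ Y) [Epi f] (h : PCoh.IsOfFiniteType P X) :
    PCoh.IsOfFiniteType P Y := by
  obtain ⟨E, p, hE, hp⟩ := h
  exact ⟨E, p ≫ f, hE, epi_comp p f⟩

theorem ft_of_iso {X Y : C} (e : X ≅ Y) (h : PCoh.IsOfFiniteType P X) :
    PCoh.IsOfFiniteType P Y :=
  ft_of_epi e.hom h

theorem ft_of_isZero (hA : IsAdditiveSub P) {X : C} (h : IsZero X) :
    PCoh.IsOfFiniteType P X :=
  ft_of_prop (hA.zero X h)

/-- An epimorphism onto an object of finite type is dominated by an object of `P`. -/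
theorem exists_epi_lift (hql : PCoh.IsQuasiLiftable P) {X Y : C} (q : X ⟶ Y) [Epi q]
    (hY : PCoh.IsOfFiniteType P Y) : ∃ (E : C) (z : E ⟶ X), P E ∧ Epi (z ≫ q) := by
  obtain ⟨E₀, p, hE₀, hp⟩ := hY
  obtain ⟨E, w, hE, hw⟩ := hql (pullback p q) E₀ (pullback.fst p q) inferInstance hE₀
  refine ⟨E, w ≫ pullback.snd p q, hE, ?_⟩
  rw [Category.assoc, ← pullback.condition, ← Category.assoc]
  exact epi_comp _ _

theorem ft_of_exact (hA : IsAdditiveSub P) (hql : PCoh.IsQuasiLiftable P) {S : ShortComplex C}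
    (hS : S.Exact) [Epi S.g] (h₁ : PCoh.IsOfFiniteType P S.X₁)
    (h₃ : PCoh.IsOfFiniteType P S.X₃) : PCoh.IsOfFiniteType P S.X₂ := by
  obtain ⟨E₁, p, hE₁, hp⟩ := h₁
  obtain ⟨E₂, z, hE₂, hz⟩ := exists_epi_lift hql S.g h₃
  refine ⟨E₁ ⊞ E₂, biprod.desc (p ≫ S.f) z, hA.biprod hE₁ hE₂, ?_⟩
  rw [epi_iff_surjective_up_to_refinements]
  intro A y
  obtain ⟨A₁, π₁, _, e, he⟩ := surjective_up_to_refinements_of_epi (z ≫ S.g) (y ≫ S.g)
  obtain ⟨A₂, π₂, _, x, hx⟩ := hS.exact_up_to_refinements (π₁ ≫ y - e ≫ z)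
    (by simp [he])
  obtain ⟨A₃, π₃, _, e₁, he₁⟩ := surjective_up_to_refinements_of_epi p x
  refine ⟨A₃, π₃ ≫ π₂ ≫ π₁, inferInstance, biprod.lift e₁ (π₃ ≫ π₂ ≫ e), ?_⟩
  have h := π₃ ≫= hx
  rw [Preadditive.comp_sub, Preadditive.comp_sub, sub_eq_iff_eq_add] at h
  simp only [biprod.lift_desc, Category.assoc]
  rw [← reassoc_of% he₁]
  exact h

/-- `S12099` -/
theorem precoherent_of_exact (hA : IsAdditiveSub P) (hql : PCoh.IsQuasiLiftable P)
    {S : ShortComplex C} (hS : S.Exact) [Epi S.g] (h₁ : PCoh.IsOfFiniteType P S.X₁)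
    (h₂ : IsPrecoherent P S.X₂) : IsPrecoherent P S.X₃ := by
  intro E u hE
  obtain ⟨E₁, p, hE₁, hp⟩ := h₁
  obtain ⟨E', w, hE', hw⟩ := hql (pullback u S.g) E (pullback.fst u S.g) inferInstance hE
  let q : E' ⟶ E := w ≫ pullback.fst u S.g
  let l : E' ⟶ S.X₂ := w ≫ pullback.snd u S.g
  have hql' : q ≫ u = l ≫ S.g := by
    simp only [q, l, Category.assoc, pullback.condition]
  let m : E' ⊞ E₁ ⟶ S.X₂ := biprod.desc l (p ≫ S.f)
  have hm : (kernel.ι m ≫ biprod.fst ≫ q) ≫ u = 0 := by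
    have h : m = biprod.fst ≫ l + biprod.snd ≫ p ≫ S.f := by
      apply biprod.hom_ext' <;> simp [m]
    have h' := kernel.condition m =≫ S.g
    conv at h' => lhs; arg 1; arg 2; rw [h]
    simp only [Category.assoc, hql']
    simpa using h'
  haveI : Epi q := hw
  have : Epi (kernel.lift u (kernel.ι m ≫ biprod.fst ≫ q) hm) := by
    rw [epi_iff_surjective_up_to_refinements]
    intro A y
    obtain ⟨A₁, π₁, _, e, he⟩ := surjective_up_to_refinements_of_epi q (y ≫ kernel.ι u)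
    obtain ⟨A₂, π₂, _, x, hx⟩ := hS.exact_up_to_refinements (e ≫ l)
      (by rw [Category.assoc, ← hql', ← reassoc_of% he, kernel.condition, comp_zero, comp_zero])
    obtain ⟨A₃, π₃, _, e₁, he₁⟩ := surjective_up_to_refinements_of_epi p x
    refine ⟨A₃, π₃ ≫ π₂ ≫ π₁, inferInstance,
      kernel.lift m (biprod.lift (π₃ ≫ π₂ ≫ e) (-e₁)) ?_, ?_⟩
    · simp only [m, biprod.lift_desc, Category.assoc, Preadditive.neg_comp]
      rw [hx, ← reassoc_of% he₁, add_neg_cancel]
    · apply (cancel_mono (kernel.ι u)).1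
      simp only [Category.assoc, kernel.lift_ι, kernel.lift_ι_assoc, biprod.lift_fst_assoc]
      rw [he]
  exact ft_of_epi (kernel.lift u (kernel.ι m ≫ biprod.fst ≫ q) hm)
    (h₂ _ m (hA.biprod hE' hE₁))

/-- `S5623` -/
theorem ft_kernel_of_precoherent {S : ShortComplex C} (hS : S.Exact) [Mono S.f]
    (h₂ : PCoh.IsOfFiniteType P S.X₂) (h₃ : IsPrecoherent P S.X₃) :
    PCoh.IsOfFiniteType P S.X₁ := by
  obtain ⟨E, p, hE, hp⟩ := h₂
  have : Epi (hS.lift (kernel.ι (p ≫ S.g) ≫ p) (by simp)) := by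
    rw [epi_iff_surjective_up_to_refinements]
    intro A y
    obtain ⟨A₁, π₁, hπ₁, e, he⟩ := surjective_up_to_refinements_of_epi p (y ≫ S.f)
    refine ⟨A₁, π₁, inferInstance, kernel.lift _ e ?_, ?_⟩
    · rw [← reassoc_of% he, S.zero, comp_zero, comp_zero]
    · apply (cancel_mono S.f).1
      simp only [Category.assoc, ShortComplex.Exact.lift_f, kernel.lift_ι_assoc, he]
  exact ft_of_epi (hS.lift (kernel.ι (p ≫ S.g) ≫ p) _) (h₃ E (p ≫ S.g) hE)

theorem precoherent_of_mono {X Y : C} (f : X ⟶ Y) [Mono f] (h : IsPrecoherent P Y) :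
    IsPrecoherent P X := by
  intro E u hE
  exact ft_of_iso (kernelCompMono u f) (h E (u ≫ f) hE)

/-- `S5624`, first half. -/
theorem precoherent_of_shortExact
    {S : ShortComplex C} (hS : S.ShortExact) (h₁ : IsPrecoherent P S.X₁)
    (h₃ : IsPrecoherent P S.X₃) : IsPrecoherent P S.X₂ := by
  haveI := hS.mono_f
  intro E u hE
  obtain ⟨E', p, hE', hp⟩ := h₃ E (u ≫ S.g) hE
  have hq : (p ≫ kernel.ι _ ≫ u) ≫ S.g = 0 := by simp
  let w := hS.exact.lift (p ≫ kernel.ι _ ≫ u) hq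
  have hw : w ≫ S.f = p ≫ kernel.ι _ ≫ u := hS.exact.lift_f _ _
  have hk : (kernel.ι w ≫ p ≫ kernel.ι (u ≫ S.g)) ≫ u = 0 := by
    simp only [Category.assoc, ← hw, kernel.condition_assoc, zero_comp]
  have : Epi (kernel.lift u _ hk) := by
    rw [epi_iff_surjective_up_to_refinements]
    intro A y
    obtain ⟨A₁, π₁, _, e, he⟩ := surjective_up_to_refinements_of_epi p
      (kernel.lift (u ≫ S.g) (y ≫ kernel.ι u) (by simp))
    have he' : π₁ ≫ y ≫ kernel.ι u = e ≫ p ≫ kernel.ι _ := by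
      simpa using he =≫ kernel.ι _
    refine ⟨A₁, π₁, inferInstance, kernel.lift w e ?_, ?_⟩
    · apply (cancel_mono S.f).1
      rw [Category.assoc, hw, ← reassoc_of% he', kernel.condition, comp_zero, comp_zero,
        zero_comp]
    · apply (cancel_mono (kernel.ι u)).1
      simp [he']
  exact ft_of_epi (kernel.lift u _ hk) (h₁ E' w hE')

theorem cycles_ft_of_quasiStable
    (hqs : PCoh.IsQuasiStableUnderKernels P) (n : ℤ) (E : CochainComplex C ℤ) (b : ℤ)
    (hb : ∀ i, b < i → IsZero (E.X i)) (hP : ∀ i, n ≤ i → P (E.X i))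
    (hac : ∀ i, n < i → E.ExactAt i) : PCoh.IsOfFiniteType P (E.cycles n) := by
  let K : CochainComplex C ℕ := CochainComplex.of
    (fun | 0 => E.cycles n | (k + 1) => E.X (n + k))
    (fun | 0 => E.iCycles n ≫ (E.XIsoOfEq (show n = n + ((0 : ℕ) : ℤ) by simp)).hom
         | (k + 1) => E.d (n + k) (n + (k + 1 : ℕ)))
    (fun | 0 => by
            simp [HomologicalComplex.XIsoOfEq_hom_comp_d]
         | (k + 1) => E.d_comp_d _ _ _)
  have hd0 : K.d 0 1 = E.iCycles n ≫ (E.XIsoOfEq (show n = n + ((0 : ℕ) : ℤ) by simp)).hom :=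
    by simp [K, CochainComplex.of.d]
  have hdk : ∀ k : ℕ, K.d (k + 1) (k + 1 + 1) = E.d (n + k) (n + (k + 1 : ℕ)) := fun k => by
    simp [K, CochainComplex.of.d]
  refine hqs K ?_ ⟨(b - n).toNat + 1, ?_⟩ ?_
  · intro i
    match i with
    | 0 =>
      rw [K.exactAt_iff' 0 0 1 (by simp) (by simp), ShortComplex.exact_iff_mono]
      · change Mono (K.d 0 1)
        rw [hd0]
        exact mono_comp _ _
      · exact K.shape 0 0 (by simp)
    | 1 =>
      rw [K.exactAt_iff' 0 1 2 (by simp) (by simp),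
        ShortComplex.exact_iff_exact_up_to_refinements]
      intro A x hx
      let x' : A ⟶ E.X (n + ((0 : ℕ) : ℤ)) := x
      refine ⟨A, 𝟙 A, inferInstance,
        E.liftCycles (x' ≫ (E.XIsoOfEq (show n + ((0 : ℕ) : ℤ) = n by simp)).hom) (n + 1)
          (by simp) ?_, ?_⟩
      · have hx' : x ≫ E.d (n + (0 : ℕ)) (n + (1 : ℕ)) = 0 := by
          rw [← hdk 0]; exact hx
        rw [Category.assoc, HomologicalComplex.XIsoOfEq_hom_comp_d]
        exact hx'
      · change 𝟙 A ≫ x = _ ≫ K.d 0 1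
        rw [hd0]
        simp [K]
        rfl
    | (k + 2) =>
      rw [K.exactAt_iff_exact_up_to_refinements (k + 1) (k + 2) (k + 3) (by simp) (by simp)]
      intro A x hx
      have h := (E.exactAt_iff_exact_up_to_refinements (n + k) (n + (k + 1 : ℕ))
        (n + (k + 2 : ℕ)) (by simp; omega) (by simp; omega)).1 (hac _ (by omega)) x
        (by rw [← hdk (k + 1)]; exact hx)
      obtain ⟨A', π, hπ, x₁, fac⟩ := h
      exact ⟨A', π, hπ, x₁, by rw [hdk k]; exact fac⟩
  · intro i hi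
    match i with
    | 0 => omega
    | (k + 1) => exact hb _ (by omega)
  · intro i hi
    match i with
    | 0 => omega
    | (k + 1) => exact hP _ (by omega)

/-- `S5602` -/
theorem homology_ft_of_strictPC
    (hqs : PCoh.IsQuasiStableUnderKernels P) {n : ℤ} {E : CochainComplex C ℤ}
    (hE : PCoh.IsStrictPC P n E) (hac : ∀ i, n < i → IsZero (E.homology i)) :
    PCoh.IsOfFiniteType P (E.homology n) := by
  obtain ⟨⟨b, hb⟩, hP⟩ := hE
  exact ft_of_epi (E.homologyπ n) (cycles_ft_of_quasiStable hqs n E b hb hP fun i hi =>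
    (E.exactAt_iff_isZero_homology i).2 (hac i hi))

end Groth.PCohPunctual
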