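import Groth.Agent.PCohPunctual.Modify
import Mathlib.Algebra.Homology.DerivedCategory.Fractions
import Mathlib.Algebra.Homology.DerivedCategory.ShortExact

/-!
# Pseudo-coherence (punctual case) in the derived category
-/

set_option autoImplicit false
set_option linter.unusedSectionVars false
set_option linter.style.haveILetI false

universe w v u

open CategoryTheory CategoryTheory.Limits CochainComplex HomologicalComplex
open CategoryTheory.Pretriangulated DerivedCategory

namespace Groth.PCohPunctual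

variable {C : Type u} [Category.{v} C] [Abelian C] [HasDerivedCategory.{w} C]

/-- `n`-pseudo-coherent object of the derived category. -/
def PCn (P : ObjectProperty C) (n : ℤ) (F : DerivedCategory C) : Prop :=
  ∃ E : CochainComplex C ℤ, PCoh.IsStrictPC P n E ∧ Nonempty (DerivedCategory.Q.obj E ≅ F)

/-- Homology of `Q.obj K`. -/
noncomputable abbrev hQIso (K : CochainComplex C ℤ) (i : ℤ) :
    (DerivedCategory.homologyFunctor C i).obj (DerivedCategory.Q.obj K) ≅ K.homology i :=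
  (DerivedCategory.homologyFunctorFactors C i).app K

theorem isZero_homology_of_iso {K : CochainComplex C ℤ} {F : DerivedCategory C}
    (e : DerivedCategory.Q.obj K ≅ F) {i : ℤ}
    (h : IsZero ((DerivedCategory.homologyFunctor C i).obj F)) : IsZero (K.homology i) :=
  h.of_iso ((hQIso K i).symm ≪≫ (DerivedCategory.homologyFunctor C i).mapIso e)

theorem isZero_homologyFunctor_of_iso {K : CochainComplex C ℤ} {F : DerivedCategory C}
    (e : DerivedCategory.Q.obj K ≅ F) {i : ℤ}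
    (h : IsZero (K.homology i)) : IsZero ((DerivedCategory.homologyFunctor C i).obj F) :=
  h.of_iso ((DerivedCategory.homologyFunctor C i).mapIso e.symm ≪≫ hQIso K i)

theorem homologyMap_eq_conj {K L : CochainComplex C ℤ} (f : K ⟶ L) (i : ℤ) :
    HomologicalComplex.homologyMap f i = (hQIso K i).inv ≫
      (DerivedCategory.homologyFunctor C i).map (DerivedCategory.Q.map f) ≫ (hQIso L i).hom := by
  rw [Iso.eq_inv_comp]
  exact (DerivedCategory.homologyFunctorFactors_hom_naturality f i).symm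

/-- An `n`-isomorphism in the derived category. -/
def DNQis {F G : DerivedCategory C} (α : F ⟶ G) (n : ℤ) : Prop :=
  (∀ i : ℤ, n < i → IsIso ((DerivedCategory.homologyFunctor C i).map α)) ∧
    Epi ((DerivedCategory.homologyFunctor C n).map α)

theorem nqis_of_dnqis {K L : CochainComplex C ℤ} (f : K ⟶ L) {n : ℤ}
    (h : DNQis (DerivedCategory.Q.map f) n) : NQis f n := by
  refine ⟨fun i hi => ?_, ?_⟩
  · haveI := h.1 i hi
    rw [homologyMap_eq_conj f i]
    infer_instance
  · haveI := h.2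
    rw [homologyMap_eq_conj f n]
    infer_instance

theorem dnqis_of_nqis {K L : CochainComplex C ℤ} {f : K ⟶ L} {n : ℤ}
    (h : NQis f n) : DNQis (DerivedCategory.Q.map f) n := by
  have key : ∀ i, (DerivedCategory.homologyFunctor C i).map (DerivedCategory.Q.map f) =
      (hQIso K i).hom ≫ HomologicalComplex.homologyMap f i ≫ (hQIso L i).inv := fun i => by
    rw [homologyMap_eq_conj f i]; simp only [Category.assoc, Iso.hom_inv_id_assoc, Iso.hom_inv_id, Category.comp_id]
  refine ⟨fun i hi => ?_, ?_⟩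
  · haveI := h.1 i hi
    rw [key]; infer_instance
  · haveI := h.2
    rw [key]; infer_instance

theorem DNQis.comp {F G H : DerivedCategory C} {α : F ⟶ G} {β : G ⟶ H} {n : ℤ}
    (hα : DNQis α n) (hβ : DNQis β n) : DNQis (α ≫ β) n := by
  refine ⟨fun i hi => ?_, ?_⟩
  · haveI := hα.1 i hi; haveI := hβ.1 i hi
    rw [Functor.map_comp]; infer_instance
  · haveI := hα.2; haveI := hβ.2
    rw [Functor.map_comp]; exact epi_comp _ _

theorem dnqis_of_isIso {F G : DerivedCategory C} (α : F ⟶ G) [IsIso α] (n : ℤ) : DNQis α n :=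
  ⟨fun _ _ => inferInstance, inferInstance⟩

variable {P : ObjectProperty C}

theorem PCn.of_iso {n : ℤ} {F G : DerivedCategory C} (h : PCn P n F) (e : F ≅ G) : PCn P n G := by
  obtain ⟨E, hE, ⟨e'⟩⟩ := h
  exact ⟨E, hE, ⟨e' ≪≫ e⟩⟩

theorem PCn.mono {n m : ℤ} {F : DerivedCategory C} (h : PCn P n F) (hnm : n ≤ m) : PCn P m F := by
  obtain ⟨E, ⟨hb, hP⟩, e⟩ := h
  exact ⟨E, ⟨hb, fun i hi => hP i (by omega)⟩, e⟩

theorem PCn.bddAbove {n : ℤ} {F : DerivedCategory C} (h : PCn P n F) :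
    ∃ b : ℤ, ∀ i, b < i → IsZero ((DerivedCategory.homologyFunctor C i).obj F) := by
  obtain ⟨E, ⟨⟨b, hb⟩, -⟩, ⟨e⟩⟩ := h
  exact ⟨b, fun i hi => isZero_homologyFunctor_of_iso e (isZero_homology_of_bddAbove hb hi)⟩

/-- `S5601` -/
theorem PCn.shift {n : ℤ} {F : DerivedCategory C} (h : PCn P n F) (m : ℤ) :
    PCn P (n - m) ((CategoryTheory.shiftFunctor (DerivedCategory C) m).obj F) := by
  obtain ⟨E, ⟨⟨b, hb⟩, hP⟩, ⟨e⟩⟩ := h
  refine ⟨(CategoryTheory.shiftFunctor (CochainComplex C ℤ) m).obj E, ⟨⟨b - m, fun i hi => hb (i + m) (by omega)⟩,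
    fun i hi => hP (i + m) (by omega)⟩,
    ⟨(DerivedCategory.Q.commShiftIso m).app E ≪≫ (CategoryTheory.shiftFunctor (DerivedCategory C) m).mapIso e⟩⟩

theorem strictPC_mappingCone (hA : IsAdditiveSub P) {n : ℤ} {K L : CochainComplex C ℤ}
    (hK : PCoh.IsStrictPC P (n + 1) K) (hL : PCoh.IsStrictPC P n L) (g : K ⟶ L) :
    PCoh.IsStrictPC P n (mappingCone g) := by
  obtain ⟨b₁, hb₁⟩ := hK.1
  obtain ⟨b₂, hb₂⟩ := hL.1
  refine ⟨⟨max b₁ b₂, fun i hi => ?_⟩, fun i hi => ?_⟩
  · rw [mappingCone.isZero_X_iff]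
    exact ⟨hb₁ _ (by omega), hb₂ _ (by omega)⟩
  · exact hA.of_iso (HomologicalComplex.homotopyCofiber.XIsoBiprod g i (i + 1) rfl).symm
      (hA.biprod (hK.2 _ (by omega)) (hL.2 _ (by omega)))

/-- Representing a morphism in `D(C)` out of a strictly pseudo-coherent complex. -/
theorem exists_roof (hA : IsAdditiveSub P) (hqs : PCoh.IsQuasiStableUnderKernels P)
    (hql : PCoh.IsQuasiLiftable P) {n : ℤ} {K L : CochainComplex C ℤ}
    (hK : PCoh.IsStrictPC P n K) (α : DerivedCategory.Q.obj K ⟶ DerivedCategory.Q.obj L) :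
    ∃ (K' : CochainComplex C ℤ) (s : K' ⟶ K) (g : K' ⟶ L), PCoh.IsStrictPC P n K' ∧ QuasiIso s ∧
      DerivedCategory.Q.map s ≫ α = DerivedCategory.Q.map g := by
  obtain ⟨X', s, hs, g, rfl⟩ := DerivedCategory.right_fac α
  haveI : QuasiIso s := (DerivedCategory.isIso_Q_map_iff_quasiIso (φ := s)).1 hs
  obtain ⟨K', t, hK', ht⟩ := exists_strictPC_qis hA hqs hql hK s
  exact ⟨K', t ≫ s, t ≫ g, hK', inferInstance, by simp⟩

theorem exists_qis_to (hA : IsAdditiveSub P) (hqs : PCoh.IsQuasiStableUnderKernels P)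
    (hql : PCoh.IsQuasiLiftable P) {n : ℤ} {G : CochainComplex C ℤ}
    (h : PCn P n (DerivedCategory.Q.obj G)) :
    ∃ (F : CochainComplex C ℤ) (s : F ⟶ G), PCoh.IsStrictPC P n F ∧ QuasiIso s := by
  obtain ⟨E, hE, ⟨e⟩⟩ := h
  obtain ⟨K', s, g, hK', hs, hg⟩ := exists_roof hA hqs hql hE e.hom
  refine ⟨K', g, hK', ?_⟩
  rw [← DerivedCategory.isIso_Q_map_iff_quasiIso, ← hg]
  infer_instance

/-- The cone of a map from a strictly pseudo-coherent complex. -/
theorem pcn_cone (hA : IsAdditiveSub P) (hqs : PCoh.IsQuasiStableUnderKernels P)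
    (hql : PCoh.IsQuasiLiftable P) {n : ℤ} {G K : CochainComplex C ℤ} (f : K ⟶ G)
    (hK : PCoh.IsStrictPC P (n + 1) K) (hG : PCn P n (DerivedCategory.Q.obj G)) :
    PCn P n (DerivedCategory.Q.obj (mappingCone f)) := by
  obtain ⟨F, s, hF, hs⟩ := exists_qis_to hA hqs hql hG
  obtain ⟨K', k, g, hK', hk, hg⟩ := exists_roof hA hqs hql hK
    (DerivedCategory.Q.map f ≫ inv (DerivedCategory.Q.map s))
  haveI := (DerivedCategory.isIso_Q_map_iff_quasiIso (φ := k)).2 hk
  haveI := (DerivedCategory.isIso_Q_map_iff_quasiIso (φ := s)).2 hs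
  have w : DerivedCategory.Q.map g ≫ DerivedCategory.Q.map s =
      DerivedCategory.Q.map k ≫ DerivedCategory.Q.map f := by
    rw [← hg]; simp
  let e₁ := asIso (DerivedCategory.Q.map k)
  let e₂ := asIso (DerivedCategory.Q.map s)
  exact ⟨mappingCone g, strictPC_mappingCone hA hK' hF g, ⟨Triangle.π₃.mapIso
    (Pretriangulated.isoTriangleOfIso₁₂ _ _ (DerivedCategory.mappingCone_triangle_distinguished g)
      (DerivedCategory.mappingCone_triangle_distinguished f) e₁ e₂ w)⟩⟩

theorem stepHyp (hA : IsAdditiveSub P) (hqs : PCoh.IsQuasiStableUnderKernels P)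
    (hql : PCoh.IsQuasiLiftable P) {n : ℤ} {G : CochainComplex C ℤ}
    (hG : PCn P n (DerivedCategory.Q.obj G))
    (m : ℤ) (K : CochainComplex C ℤ) (f : K ⟶ G) (hm : n ≤ m) (hK : PCoh.IsStrictPC P n K)
    (hf : NQis f (m + 1)) : PCoh.IsOfFiniteType P ((mappingCone f).homology m) := by
  obtain ⟨E, hE, ⟨e⟩⟩ := (pcn_cone hA hqs hql f ⟨hK.1, fun i hi => hK.2 i (by omega)⟩ hG).mono hm
  have key : ∀ i, E.homology i ≅ (mappingCone f).homology i := fun i =>
    (hQIso E i).symm ≪≫ (DerivedCategory.homologyFunctor C i).mapIso e ≪≫ hQIso _ i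
  refine ft_of_iso (key m) (homology_ft_of_strictPC hqs hE fun i hi => ?_)
  exact ((exactAt_iff_isZero_homology _ _).1 (exactAt_cone_of_nqis hf (by omega))).of_iso (key i)

/-- The first assertion of `S5599`. -/
theorem PCn.cone (hA : IsAdditiveSub P) (hqs : PCoh.IsQuasiStableUnderKernels P)
    (hql : PCoh.IsQuasiLiftable P) {n : ℤ} {T : Triangle (DerivedCategory C)}
    (hT : T ∈ distinguishedTriangles) (h₁ : PCn P (n + 1) T.obj₁) (h₂ : PCn P n T.obj₂) :
    PCn P n T.obj₃ := by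
  obtain ⟨E, hE, ⟨e₁⟩⟩ := h₁
  obtain ⟨F, hF, ⟨e₂⟩⟩ := h₂
  obtain ⟨E', k, g, hE', hk, hg⟩ := exists_roof hA hqs hql hE (e₁.hom ≫ T.mor₁ ≫ e₂.inv)
  haveI := (DerivedCategory.isIso_Q_map_iff_quasiIso (φ := k)).2 hk
  let e₁' := asIso (DerivedCategory.Q.map k) ≪≫ e₁
  exact ⟨mappingCone g, strictPC_mappingCone hA hE' hF g, ⟨Triangle.π₃.mapIso
    (Pretriangulated.isoTriangleOfIso₁₂ _ T (DerivedCategory.mappingCone_triangle_distinguished g)
      hT e₁' e₂ (by
        change DerivedCategory.Q.map g ≫ e₂.hom = _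
        rw [← hg]; simp only [e₁', Iso.trans_hom, asIso_hom, Category.assoc, Iso.inv_hom_id, Category.comp_id]; exact (Category.assoc _ _ _).symm))⟩⟩

/-- The second assertion of `S5599`. -/
theorem PCn.ext (hA : IsAdditiveSub P) (hqs : PCoh.IsQuasiStableUnderKernels P)
    (hql : PCoh.IsQuasiLiftable P) {n : ℤ} {T : Triangle (DerivedCategory C)}
    (hT : T ∈ distinguishedTriangles) (h₁ : PCn P n T.obj₁) (h₃ : PCn P n T.obj₃) :
    PCn P n T.obj₂ := by
  refine PCn.cone hA hqs hql (Pretriangulated.inv_rot_of_distTriang T hT) ?_ h₁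
  exact (show n - (-1) = n + 1 by omega) ▸ h₃.shift (-1)

/-- The third assertion of `S5599`. -/
theorem PCn.fiber (hA : IsAdditiveSub P) (hqs : PCoh.IsQuasiStableUnderKernels P)
    (hql : PCoh.IsQuasiLiftable P) {n : ℤ} {T : Triangle (DerivedCategory C)}
    (hT : T ∈ distinguishedTriangles) (h₂ : PCn P (n + 1) T.obj₂) (h₃ : PCn P n T.obj₃) :
    PCn P (n + 1) T.obj₁ := by
  have h := (PCn.cone hA hqs hql (Pretriangulated.rot_of_distTriang T hT) h₂ h₃).shift (-1)
  exact (show n - (-1) = n + 1 by omega) ▸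
    h.of_iso ((shiftFunctorCompIsoId (DerivedCategory C) (1 : ℤ) (-1) (by omega)).app T.obj₁)

theorem exists_strictPC_of_nqis (hA : IsAdditiveSub P) {n : ℤ} {K G : CochainComplex C ℤ}
    (hK : PCoh.IsStrictPC P n K) {f : K ⟶ G} (hf : NQis f n) : PCn P n (DerivedCategory.Q.obj G) := by
  obtain ⟨F', w, f', -, hf', -, hw⟩ := exists_qis_factor hf
  refine ⟨F', ⟨?_, fun i hi => ?_⟩, ⟨asIso (DerivedCategory.Q.map f')⟩⟩
  · obtain ⟨c, hc⟩ := hK.1
    refine ⟨max c n, fun i hi => ?_⟩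
    haveI := hw i (by omega)
    exact (hc i (by omega)).of_iso (asIso (w.f i)).symm
  · haveI := hw i hi
    exact hA.of_iso (asIso (w.f i)) (hK.2 i hi)

theorem isZero_zeroComplex_X (i : ℤ) :
    IsZero ((HomologicalComplex.zero : CochainComplex C ℤ).X i) :=
  Functor.map_isZero (HomologicalComplex.eval C (ComplexShape.up ℤ) i)
    HomologicalComplex.isZero_zero

theorem nqis_zero {G : CochainComplex C ℤ} {n : ℤ} (h : ∀ i, n ≤ i → IsZero (G.homology i)) :
    NQis (0 : (HomologicalComplex.zero : CochainComplex C ℤ) ⟶ G) n :=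
  nqis_of_isZero _ _ (fun _ _ => (HomologicalComplex.homologyFunctor C _ _).map_isZero
    HomologicalComplex.isZero_zero) h

/-- `S5603`, the implication `←`. -/
theorem pcn_of_ft (hA : IsAdditiveSub P) (hql : PCoh.IsQuasiLiftable P) {n : ℤ}
    {F : DerivedCategory C}
    (hac : ∀ i : ℤ, n < i → IsZero ((DerivedCategory.homologyFunctor C i).obj F))
    (hft : PCoh.IsOfFiniteType P ((DerivedCategory.homologyFunctor C n).obj F)) : PCn P n F := by
  let G := DerivedCategory.Q.objPreimage F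
  let e : DerivedCategory.Q.obj G ≅ F := DerivedCategory.Q.objObjPreimageIso F
  let f : (HomologicalComplex.zero : CochainComplex C ℤ) ⟶ G := 0
  have hf : NQis f (n + 1) := nqis_zero fun i hi => isZero_homology_of_iso e (hac i (by omega))
  have hinr : ∀ i, IsIso ((mappingCone.inr f).f i) := fun i => by
    refine ⟨(mappingCone.snd f).v i i (add_zero i), mappingCone.inr_f_snd_v f i, ?_⟩
    apply mappingCone.ext_from f (i + 1) i rfl
    · exact (isZero_zeroComplex_X (C := C) (i + 1)).eq_of_src _ _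
    · simp
  haveI : IsIso (mappingCone.inr f) :=
    haveI := hinr
    HomologicalComplex.Hom.isIso_of_components _
  obtain ⟨K, v, f', -, -, hv, -, hP, hf'⟩ := exists_step hA hql hf
    (ft_of_iso ((DerivedCategory.homologyFunctor C n).mapIso e.symm ≪≫ hQIso G n ≪≫
      asIso (HomologicalComplex.homologyMap (mappingCone.inr f) n)) hft)
  refine (exists_strictPC_of_nqis hA ?_ hf').of_iso e
  refine ⟨⟨n, fun i hi => ?_⟩, fun i hi => ?_⟩
  · haveI := hv i (by omega)
    exact (isZero_zeroComplex_X i).of_iso (asIso (v.f i)).symm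
  · by_cases h : i = n
    · subst h; exact hP (hA.zero _ (isZero_zeroComplex_X _))
    · haveI := hv i h
      exact hA.zero _ ((isZero_zeroComplex_X i).of_iso (asIso (v.f i)).symm)

theorem pcn_of_isZero (hA : IsAdditiveSub P) (hql : PCoh.IsQuasiLiftable P) {n : ℤ}
    {F : DerivedCategory C}
    (hac : ∀ i : ℤ, n ≤ i → IsZero ((DerivedCategory.homologyFunctor C i).obj F)) : PCn P n F :=
  pcn_of_ft hA hql (fun i hi => hac i hi.le) (ft_of_isZero hA (hac n le_rfl))

/-- `S5603`, the implication `→`. -/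
theorem ft_of_pcn (hqs : PCoh.IsQuasiStableUnderKernels P) {n : ℤ} {F : DerivedCategory C}
    (hac : ∀ i : ℤ, n < i → IsZero ((DerivedCategory.homologyFunctor C i).obj F))
    (h : PCn P n F) : PCoh.IsOfFiniteType P ((DerivedCategory.homologyFunctor C n).obj F) := by
  obtain ⟨E, hE, ⟨e⟩⟩ := h
  exact ft_of_iso ((hQIso E n).symm ≪≫ (DerivedCategory.homologyFunctor C n).mapIso e)
    (homology_ft_of_strictPC hqs hE fun i hi => isZero_homology_of_iso e (hac i hi))

/-- `S12100` -/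
theorem exists_qis_extension (hA : IsAdditiveSub P) (hqs : PCoh.IsQuasiStableUnderKernels P)
    (hql : PCoh.IsQuasiLiftable P) {n i : ℤ} {E F : CochainComplex C ℤ}
    (hE : PCoh.IsStrictPC P n E) (hF : PCn P n (DerivedCategory.Q.obj F)) {u : E ⟶ F}
    (hu : NQis u i) :
    ∃ (E' : CochainComplex C ℤ) (v : E ⟶ E') (u' : E' ⟶ F), v ≫ u' = u ∧ PCoh.IsStrictPC P n E' ∧
      QuasiIso u' ∧ (∀ j : ℤ, Mono (v.f j)) ∧ (∀ j : ℤ, i ≤ j → IsIso (v.f j)) := by
  obtain ⟨K, v, f, hvf, hK, hf, hvmono, hviso⟩ :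
      ∃ (K : CochainComplex C ℤ) (v : E ⟶ K) (f : K ⟶ F), v ≫ f = u ∧ PCoh.IsStrictPC P n K ∧
        NQis f (min n i) ∧ (∀ j : ℤ, Mono (v.f j)) ∧ (∀ j : ℤ, i ≤ j → IsIso (v.f j)) := by
    rcases le_total n i with h | h
    · obtain ⟨K, v, f, h₁, h₂, h₃, h₄, h₅⟩ :=
        exists_approx hA hql (stepHyp hA hqs hql hF) h u hE hu
      exact ⟨K, v, f, h₁, h₂, by rwa [min_eq_left h], h₄, fun j hj => h₅ j (Or.inl hj)⟩
    · exact ⟨E, 𝟙 E, u, Category.id_comp _, hE, by rwa [min_eq_right h],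
        fun j => by dsimp; infer_instance, fun j _ => by dsimp; infer_instance⟩
  obtain ⟨E', w, u', hwu, hu', hwmono, hwiso⟩ := exists_qis_factor hf
  refine ⟨E', v ≫ w, u', by rw [Category.assoc, hwu, hvf], ⟨?_, fun j hj => ?_⟩, hu',
    fun j => ?_, fun j hj => ?_⟩
  · obtain ⟨c, hc⟩ := hK.1
    refine ⟨max c n, fun j hj => ?_⟩
    haveI := hwiso j (by omega)
    exact (hc j (by omega)).of_iso (asIso (w.f j)).symm
  · haveI := hwiso j (by omega)
    exact hA.of_iso (asIso (w.f j)) (hK.2 j hj)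
  · haveI := hvmono j; haveI := hwmono j
    exact mono_comp _ _
  · haveI := hviso j hj; haveI := hwiso j (by omega)
    exact IsIso.comp_isIso' inferInstance inferInstance

/-- `S5617` -/
theorem exists_vanishing_above (hA : IsAdditiveSub P) (hqs : PCoh.IsQuasiStableUnderKernels P)
    (hql : PCoh.IsQuasiLiftable P) {n m : ℤ} {F : DerivedCategory C} (hF : PCn P n F)
    (hac : ∀ i : ℤ, m ≤ i → IsZero ((DerivedCategory.homologyFunctor C i).obj F)) :
    ∃ E : CochainComplex C ℤ, PCoh.IsStrictPC P n E ∧ (∀ i : ℤ, m ≤ i → IsZero (E.X i)) ∧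
      Nonempty (DerivedCategory.Q.obj E ≅ F) := by
  let G := DerivedCategory.Q.objPreimage F
  let e : DerivedCategory.Q.obj G ≅ F := DerivedCategory.Q.objObjPreimageIso F
  obtain ⟨E, v, f, -, hE, hf, -, hv⟩ := exists_qis_extension hA hqs hql (strictPC_zero hA n)
    (hF.of_iso e.symm) (nqis_zero fun i hi => isZero_homology_of_iso e (hac i hi))
  refine ⟨E, hE, fun i hi => ?_, ⟨asIso (DerivedCategory.Q.map f) ≪≫ e⟩⟩
  haveI := hv i hi
  exact (isZero_zeroComplex_X i).of_iso (asIso (v.f i)).symm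

/-- `S5598`, the implication `→`. -/
theorem exists_strictPerfect_dnqis (hA : IsAdditiveSub P) (hqs : PCoh.IsQuasiStableUnderKernels P)
    (hql : PCoh.IsQuasiLiftable P) {n : ℤ} {F : DerivedCategory C} (hF : PCn P n F) (b : ℤ)
    (hb : n ≤ b) (hac : ∀ i : ℤ, b ≤ i → IsZero ((DerivedCategory.homologyFunctor C i).obj F)) :
    ∃ (E : CochainComplex C ℤ) (α : DerivedCategory.Q.obj E ⟶ F),
      (∀ i : ℤ, i < n ∨ b ≤ i → IsZero (E.X i)) ∧ (∀ i : ℤ, P (E.X i)) ∧ DNQis α n := by
  let G := DerivedCategory.Q.objPreimage F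
  let e : DerivedCategory.Q.obj G ≅ F := DerivedCategory.Q.objObjPreimageIso F
  obtain ⟨E, v, f, -, hE, hf, -, hv⟩ := exists_approx hA hql
    (stepHyp hA hqs hql (hF.of_iso e.symm)) hb _ (strictPC_zero hA n)
    (nqis_zero fun i hi => isZero_homology_of_iso e (hac i hi))
  have h0 : ∀ i : ℤ, i < n ∨ b ≤ i → IsZero (E.X i) := fun i hi => by
    haveI := hv i hi.symm
    exact (isZero_zeroComplex_X i).of_iso (asIso (v.f i)).symm
  refine ⟨E, DerivedCategory.Q.map f ≫ e.hom, h0, fun i => ?_,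
    (dnqis_of_nqis hf).comp (dnqis_of_isIso e.hom n)⟩
  by_cases hi : n ≤ i
  · exact hE.2 i hi
  · exact hA.zero _ (h0 i (Or.inl (by omega)))

/-- `S5598`, the implication `←`. -/
theorem pcn_of_dnqis (hA : IsAdditiveSub P) (hqs : PCoh.IsQuasiStableUnderKernels P)
    (hql : PCoh.IsQuasiLiftable P) {n : ℤ} {E : CochainComplex C ℤ} {F : DerivedCategory C}
    (hE : PCoh.IsStrictPC P n E) {α : DerivedCategory.Q.obj E ⟶ F} (hα : DNQis α n) :
    PCn P n F := by
  let G := DerivedCategory.Q.objPreimage F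
  let e : DerivedCategory.Q.obj G ≅ F := DerivedCategory.Q.objObjPreimageIso F
  obtain ⟨K, s, g, hK, hs, hg⟩ := exists_roof hA hqs hql hE (α ≫ e.inv)
  refine (exists_strictPC_of_nqis hA hK (nqis_of_dnqis g ?_)).of_iso e
  rw [← hg]
  exact (dnqis_of_isIso _ n).comp (hα.comp (dnqis_of_isIso e.inv n))

/-- `S5605` -/
theorem pcn_biprod_iff (hA : IsAdditiveSub P) (hqs : PCoh.IsQuasiStableUnderKernels P)
    (hql : PCoh.IsQuasiLiftable P) (n : ℤ) (F' F'' : DerivedCategory C) [HasBinaryBiproduct F' F''] :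
    PCn P n (F' ⊞ F'') ↔ PCn P n F' ∧ PCn P n F'' := by
  haveI : HasBinaryBiproducts (DerivedCategory C) := HasBinaryBiproducts.of_hasBinaryProducts
  refine ⟨fun h => ?_, fun h =>
    PCn.ext hA hqs hql (binaryBiproductTriangle_distinguished F' F'') h.1 h.2⟩
  obtain ⟨b, hb⟩ := h.bddAbove
  have hz : ∀ (X Y : DerivedCategory C) (i : X ⟶ Y) (p : Y ⟶ X), i ≫ p = 𝟙 X → ∀ j : ℤ,
      IsZero ((DerivedCategory.homologyFunctor C j).obj Y) →
      IsZero ((DerivedCategory.homologyFunctor C j).obj X) := by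
    intro X Y i p hip j hY
    rw [IsZero.iff_id_eq_zero, ← CategoryTheory.Functor.map_id, ← hip, Functor.map_comp,
      hY.eq_of_tgt ((DerivedCategory.homologyFunctor C j).map i) 0, zero_comp]
  suffices ∀ (k : ℕ) (m : ℤ), b + 1 - k = m → PCn P m (F' ⊞ F'') → PCn P m F' ∧ PCn P m F'' by
    rcases le_or_gt n (b + 1) with hn | hn
    · exact this (b + 1 - n).toNat n (by omega) h
    · exact ⟨pcn_of_isZero hA hql fun i hi => hz _ _ biprod.inl biprod.fst biprod.inl_fst i
          (hb i (by omega)),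
        pcn_of_isZero hA hql fun i hi => hz _ _ biprod.inr biprod.snd biprod.inr_snd i
          (hb i (by omega))⟩
  intro k
  induction k with
  | zero =>
    intro m hm _
    exact ⟨pcn_of_isZero hA hql fun i hi => hz _ _ biprod.inl biprod.fst biprod.inl_fst i
        (hb i (by omega)),
      pcn_of_isZero hA hql fun i hi => hz _ _ biprod.inr biprod.snd biprod.inr_snd i
        (hb i (by omega))⟩
  | succ k ih =>
    intro m hm hF
    obtain ⟨h₁, h₂⟩ := ih (m + 1) (by omega) (hF.mono (by omega))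
    refine ⟨?_, PCn.cone hA hqs hql (binaryBiproductTriangle_distinguished F' F'') h₁ hF⟩
    exact PCn.cone hA hqs hql (binaryBiproductTriangle_distinguished F'' F') h₂
      (hF.of_iso (biprod.braiding F' F''))

end Groth.PCohPunctual
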