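import Groth.Agent.PCohPunctual.Devissage

/-!
# `n`-finite presentation and pseudo-coherence of an object
-/

set_option autoImplicit false
set_option linter.unusedSectionVars false
set_option linter.style.haveILetI false

universe w v u

open CategoryTheory CategoryTheory.Limits CochainComplex HomologicalComplex
open CategoryTheory.Pretriangulated DerivedCategory

namespace Groth.PCohPunctual

variable {C : Type u} [Category.{v} C] [Abelian C]
variable {P : ObjectProperty C}

variable (P) in
/-- `F` is of `n`-finite presentation. -/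
def IsFinPres (n : ℕ) (F : C) : Prop :=
  ∃ K : ChainComplex C ℕ, Nonempty (K.X 0 ≅ F) ∧ (∀ j : ℕ, j ≤ n → K.ExactAt j) ∧
    (∀ j : ℕ, n + 1 < j → IsZero (K.X j)) ∧ (∀ j : ℕ, 1 ≤ j → j ≤ n + 1 → P (K.X j))

/-- Splice an epimorphism with a complex resolving its kernel. -/
noncomputable def splice (L : ChainComplex C ℕ) {E F : C} (p : E ⟶ F) (e : L.X 0 ⟶ kernel p) :
    ChainComplex C ℕ :=
  ChainComplex.of
    (fun | 0 => F | 1 => E | (j + 2) => L.X (j + 1))
    (fun | 0 => p | 1 => L.d 1 0 ≫ e ≫ kernel.ι p | (j + 2) => L.d (j + 2) (j + 1))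
    (fun
      | 0 => by simp
      | 1 => by simp
      | (j + 2) => L.d_comp_d _ _ _)

theorem splice_d₀ (L : ChainComplex C ℕ) {E F : C} (p : E ⟶ F) (e : L.X 0 ⟶ kernel p) :
    (splice L p e).d 1 0 = p := by
  simp [splice, ChainComplex.of.d]

theorem splice_d₁ (L : ChainComplex C ℕ) {E F : C} (p : E ⟶ F) (e : L.X 0 ⟶ kernel p) :
    (splice L p e).d 2 1 = L.d 1 0 ≫ e ≫ kernel.ι p := by
  simp [splice, ChainComplex.of.d]

theorem splice_d₂ (L : ChainComplex C ℕ) {E F : C} (p : E ⟶ F) (e : L.X 0 ⟶ kernel p) (k : ℕ) :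
    (splice L p e).d (k + 3) (k + 2) = L.d (k + 2) (k + 1) := by
  simp [splice, ChainComplex.of.d]

theorem finPres_step {E F : C} (p : E ⟶ F) [Epi p] (hE : P E) (L : ChainComplex C ℕ)
    (e : L.X 0 ⟶ kernel p) (n : ℕ)
    (h₁ : 1 ≤ n → Epi (L.d 1 0 ≫ e))
    (h₂ : ∀ j, 2 ≤ j → j ≤ n → L.ExactAt (j - 1) ∧ Mono e)
    (hz : ∀ j, n < j → IsZero (L.X j)) (hP : ∀ j, 1 ≤ j → j ≤ n → P (L.X j)) :
    IsFinPres P n F := by
  refine ⟨splice L p e, ⟨Iso.refl _⟩, fun j hj => ?_, fun j hj => ?_, fun j h1 hj => ?_⟩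
  · match j with
    | 0 =>
      rw [(splice L p e).exactAt_iff_exact_up_to_refinements 1 0 0 (by simp) (by simp)]
      intro A x _
      obtain ⟨A', π, hπ, y, hy⟩ := surjective_up_to_refinements_of_epi p x
      exact ⟨A', π, hπ, y, by rw [splice_d₀]; exact hy⟩
    | 1 =>
      rw [(splice L p e).exactAt_iff_exact_up_to_refinements 2 1 0 (by simp) (by simp)]
      intro A x hx
      haveI := h₁ hj
      have hx' : x ≫ p = 0 := by rw [splice_d₀] at hx; exact hx
      obtain ⟨A', π, hπ, y, hy⟩ :=
        surjective_up_to_refinements_of_epi (L.d 1 0 ≫ e) (kernel.lift p x hx')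
      refine ⟨A', π, hπ, y, ?_⟩
      have := hy =≫ kernel.ι p
      rw [Category.assoc] at this
      erw [kernel.lift_ι] at this
      rw [splice_d₁]
      refine this.trans ?_
      simp only [Category.assoc]
      rfl
    | 2 =>
      obtain ⟨hL, he⟩ := h₂ 2 le_rfl hj
      rw [(splice L p e).exactAt_iff_exact_up_to_refinements 3 2 1 (by simp) (by simp)]
      intro A x hx
      have hx0 : x ≫ L.d 1 0 ≫ e ≫ kernel.ι p = 0 := by
        rw [splice_d₁] at hx; exact hx
      have hx' : x ≫ L.d 1 0 = 0 := by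
        apply (cancel_mono (e ≫ kernel.ι p)).1
        rw [zero_comp, ← hx0]
        exact Category.assoc _ _ _
      obtain ⟨A', π, hπ, y, hy⟩ :=
        (L.exactAt_iff_exact_up_to_refinements 2 1 0 (by simp) (by simp)).1 hL x hx'
      exact ⟨A', π, hπ, y, by rw [splice_d₂ L p e 0]; exact hy⟩
    | (k + 3) =>
      obtain ⟨hL, -⟩ := h₂ (k + 3) (by omega) hj
      rw [(splice L p e).exactAt_iff_exact_up_to_refinements (k + 4) (k + 3) (k + 2) (by simp)
        (by simp)]
      intro A x hx
      obtain ⟨A', π, hπ, y, hy⟩ :=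
        (L.exactAt_iff_exact_up_to_refinements (k + 3) (k + 2) (k + 1) (by simp) (by simp)).1 hL x
          (by rw [splice_d₂] at hx; exact hx)
      exact ⟨A', π, hπ, y, by rw [splice_d₂ L p e (k + 1)]; exact hy⟩
  · match j with
    | 0 => omega
    | 1 => omega
    | (k + 2) => exact hz (k + 1) (by omega)
  · match j with
    | 0 => omega
    | 1 => exact hE
    | (k + 2) => exact hP (k + 1) (by omega) (by omega)

variable [HasDerivedCategory.{w} C]

theorem pcn_single_of_prop (hA : IsAdditiveSub P) {E : C} (hE : P E) (m : ℤ) :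
    PCn P m ((DerivedCategory.singleFunctor C 0).obj E) :=
  ⟨(HomologicalComplex.single C (ComplexShape.up ℤ) 0).obj E,
    ⟨⟨0, fun i hi => isZero_single_obj_X _ _ _ _ (by omega)⟩, fun i _ => by
      by_cases h : i = 0
      · subst h; exact hA.of_iso (singleObjXSelf (ComplexShape.up ℤ) 0 E).symm hE
      · exact hA.zero _ (isZero_single_obj_X _ _ _ _ h)⟩, ⟨Iso.refl _⟩⟩

theorem finPres_of_pcn (hA : IsAdditiveSub P) (hqs : PCoh.IsQuasiStableUnderKernels P)
    (hql : PCoh.IsQuasiLiftable P) (n : ℕ) : ∀ (F : C),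
    PCn P (-(n : ℤ)) ((DerivedCategory.singleFunctor C 0).obj F) → IsFinPres P n F := by
  induction n with
  | zero =>
    intro F h
    obtain ⟨E, p, hE, hp⟩ := ft_of_pcn_single hqs (by simpa using h)
    exact finPres_step p hE HomologicalComplex.zero 0 0 (by omega) (by omega)
      (fun j _ => Functor.map_isZero (HomologicalComplex.eval C (ComplexShape.down ℕ) j)
        HomologicalComplex.isZero_zero) (by omega)
  | succ n ih =>
    intro F h
    obtain ⟨E, p, hE, hp⟩ := ft_of_pcn_single hqs (h.mono (by omega))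
    have hS : (ShortComplex.mk (kernel.ι p) p (kernel.condition p)).ShortExact :=
      { exact := ShortComplex.exact_of_f_is_kernel _ (kernelIsKernel p) }
    have hG := PCn.fiber (n := -((n + 1 : ℕ) : ℤ)) hA hqs hql hS.singleTriangle_distinguished
      (pcn_single_of_prop hA hE _) h
    obtain ⟨L, ⟨e⟩, hex, hz, hP⟩ := ih (kernel p) (by
      rwa [show -((n + 1 : ℕ) : ℤ) + 1 = -(n : ℤ) by omega] at hG)
    refine finPres_step p hE L e.hom (n + 1) (fun _ => ?_)
      (fun j h2 hj => ⟨hex _ (by omega), inferInstance⟩) (fun j hj => hz j hj)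
      (fun j h1 hj => hP j h1 hj)
    have : Epi (L.d 1 0) := by
      rw [epi_iff_surjective_up_to_refinements]
      intro A y
      exact (L.exactAt_iff_exact_up_to_refinements 1 0 0 (by simp) (by simp)).1 (hex 0 (by omega))
        y (by simp)
    exact epi_comp _ _

theorem pcn_of_finPres (hA : IsAdditiveSub P) (hqs : PCoh.IsQuasiStableUnderKernels P)
    (hql : PCoh.IsQuasiLiftable P) (n : ℕ) (F : C) (h : IsFinPres P n F) :
    PCn P (-(n : ℤ)) ((DerivedCategory.singleFunctor C 0).obj F) := by
  obtain ⟨K, ⟨e⟩, hex, -, hP⟩ := h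
  have main : ∀ (k j : ℕ), j + k = n →
      PCn P (-(k : ℤ)) ((DerivedCategory.singleFunctor C 0).obj (K.cycles j)) := by
    intro k
    induction k with
    | zero =>
      intro j hj
      have hj' : j = n := by omega
      subst hj'
      haveI : Epi (K.toCycles (j + 1) j) := by
        rw [epi_iff_surjective_up_to_refinements]
        intro A y
        obtain ⟨A', π, hπ, x, hx⟩ :=
          (K.exactAt_iff_exact_up_to_refinements (j + 1) j _ (by simp) rfl).1
            (hex j le_rfl) (y ≫ K.iCycles j) (by simp)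
        exact ⟨A', π, hπ, x, by simp [← cancel_mono (K.iCycles j), hx]⟩
      simpa using pcn_single_of_ft hA hql
        (ft_of_epi (K.toCycles (j + 1) j) (ft_of_prop (hP (j + 1) (by omega) le_rfl)))
    | succ k ih =>
      intro j hj
      haveI : Epi (K.toCycles (j + 1) j) := by
        rw [epi_iff_surjective_up_to_refinements]
        intro A y
        obtain ⟨A', π, hπ, x, hx⟩ :=
          (K.exactAt_iff_exact_up_to_refinements (j + 1) j _ (by simp) rfl).1
            (hex j (by omega)) (y ≫ K.iCycles j) (by simp)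
        exact ⟨A', π, hπ, x, by simp [← cancel_mono (K.iCycles j), hx]⟩
      have hS : (ShortComplex.mk (K.iCycles (j + 1)) (K.toCycles (j + 1) j)
          (by simp [← cancel_mono (K.iCycles j)])).ShortExact := by
        refine { exact := ?_ }
        rw [ShortComplex.exact_iff_exact_up_to_refinements]
        intro A x hx
        have hx' : x ≫ K.d (j + 1) j = 0 := by
          change x ≫ K.toCycles (j + 1) j = 0 at hx
          simpa [Category.assoc] using hx =≫ K.iCycles j
        exact ⟨A, 𝟙 A, inferInstance, K.liftCycles x j (by simp) hx', by simp⟩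
      refine PCn.cone hA hqs hql hS.singleTriangle_distinguished ?_
        (pcn_single_of_prop hA (hP (j + 1) (by omega) (by omega)) _)
      have := ih (j + 1) (by omega)
      rwa [show -((k + 1 : ℕ) : ℤ) + 1 = -(k : ℤ) by omega]
  haveI : IsIso (K.iCycles 0) := K.isIso_iCycles 0 0 (by simp) (K.shape 0 0 (by simp))
  exact (main n 0 (by simp)).of_iso
    ((DerivedCategory.singleFunctor C 0).mapIso (asIso (K.iCycles 0) ≪≫ e))

end Groth.PCohPunctual
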