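import Groth.Agent.PCohPunctual.Basic
import Mathlib.Algebra.Homology.DerivedCategory.HomologySequence
import Mathlib.Algebra.Homology.HomotopyCategory.SingleFunctors
import Mathlib.Algebra.Homology.SingleHomology
import Mathlib.Algebra.Homology.Embedding.CochainComplex
import Mathlib.Algebra.Homology.Embedding.TruncLEHomology

/-!
# Pseudo-coherence (punctual case): modifications of complexes

`ext z` is the extension of a complex `E` by a complex `T` attached to a chain map
`z : T ⟶ mappingCone u`; it comes with `E ⟶ ext z ⟶ F` factoring `u`.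
-/

set_option autoImplicit false
set_option linter.unusedSectionVars false
set_option linter.style.haveILetI false

universe v u

open CategoryTheory CategoryTheory.Limits CochainComplex HomologicalComplex

namespace Groth.PCohPunctual

variable {C : Type u} [Category.{v} C] [Abelian C]

/-- `n`-quasi-isomorphism. -/
def NQis {E F : CochainComplex C ℤ} (f : E ⟶ F) (n : ℤ) : Prop :=
  (∀ i : ℤ, n < i → IsIso (HomologicalComplex.homologyMap f i)) ∧
    Epi (HomologicalComplex.homologyMap f n)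

theorem NQis.mono {E F : CochainComplex C ℤ} {f : E ⟶ F} {n m : ℤ} (h : NQis f n) (hnm : n ≤ m) :
    NQis f m := by
  refine ⟨fun i hi => h.1 i (by omega), ?_⟩
  rcases hnm.eq_or_lt with rfl | hlt
  · exact h.2
  · haveI := h.1 m hlt
    infer_instance

theorem NQis.epi {E F : CochainComplex C ℤ} {f : E ⟶ F} {n i : ℤ} (h : NQis f n) (hi : n ≤ i) :
    Epi (HomologicalComplex.homologyMap f i) :=
  (h.mono hi).2

theorem NQis.mono_map {E F : CochainComplex C ℤ} {f : E ⟶ F} {n i : ℤ} (h : NQis f n)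
    (hi : n < i) : Mono (HomologicalComplex.homologyMap f i) := by
  haveI := h.1 i hi
  infer_instance

theorem nqis_of_quasiIso {E F : CochainComplex C ℤ} (f : E ⟶ F) [QuasiIso f] (n : ℤ) :
    NQis f n :=
  ⟨fun i _ => inferInstance, inferInstance⟩

theorem nqis_of_isZero {E F : CochainComplex C ℤ} (f : E ⟶ F) (n : ℤ)
    (hE : ∀ i, n < i → IsZero (E.homology i)) (hF : ∀ i, n ≤ i → IsZero (F.homology i)) :
    NQis f n := by
  refine ⟨fun i hi => ?_, ?_⟩
  · exact ⟨0, (hE i hi).eq_of_src _ _, (hF i hi.le).eq_of_src _ _⟩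
  · exact ⟨fun _ _ _ => (hF n le_rfl).eq_of_src _ _⟩

/-- An `n`-quasi-isomorphism has mapping cone exact in degrees `≥ n`. -/
theorem exactAt_cone_of_nqis {E F : CochainComplex C ℤ} {f : E ⟶ F} {n : ℤ} (h : NQis f n)
    {i : ℤ} (hi : n ≤ i) : (mappingCone f).ExactAt i := by
  rw [(mappingCone f).exactAt_iff_exact_up_to_refinements (i - 1) i (i + 1) (by simp) (by simp)]
  intro A c hc
  obtain ⟨a, x, rfl⟩ := mappingCone.decomp_to f c (i + 1) rfl
  have h₁ : a ≫ E.d (i + 1) (i + 1 + 1) = 0 := by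
    have := hc =≫ (mappingCone.fst f).1.v (i + 1) (i + 1 + 1) rfl
    simpa [mappingCone.d_fst_v f i (i + 1) (i + 1 + 1) rfl rfl] using this
  have h₂ : a ≫ f.f (i + 1) + x ≫ F.d i (i + 1) = 0 := by
    have := hc =≫ (mappingCone.snd f).v (i + 1) (i + 1) (add_zero _)
    simpa [mappingCone.d_snd_v f i (i + 1) rfl] using this
  haveI := h.mono_map (i := i + 1) (by omega)
  obtain ⟨A₁, π₁, _, e₀, he₀⟩ :=
    (mono_homologyMap_iff_up_to_refinements f i (i + 1) (i + 1 + 1) (by simp) (by simp)).1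
      inferInstance a h₁ (-x) (by
        rw [Preadditive.neg_comp]
        exact eq_neg_of_add_eq_zero_left h₂)
  obtain ⟨A₂, π₂, _, e₁, he₁, z, hz⟩ :=
    (epi_homologyMap_iff_up_to_refinements f (i - 1) i (i + 1) (by simp) (by simp)).1
      (h.epi hi) (e₀ ≫ f.f i + π₁ ≫ x) (by
        have h₂' := π₁ ≫= h₂
        rw [Preadditive.comp_add, comp_zero, ← Category.assoc, he₀, Category.assoc, ← f.comm,
          ← Category.assoc, ← Category.assoc] at h₂'
        rw [Preadditive.add_comp]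
        simpa using h₂')
  refine ⟨A₂, π₂ ≫ π₁, inferInstance,
    (e₁ - π₂ ≫ e₀) ≫ (mappingCone.inl f).v i (i - 1) (by omega) +
      z ≫ (mappingCone.inr f).f (i - 1), ?_⟩
  apply mappingCone.ext_to f i (i + 1) rfl
  · simp [mappingCone.d_fst_v f (i - 1) i (i + 1) (by omega) rfl, he₁, he₀]
  · simp only [Preadditive.comp_add, Preadditive.add_comp, Category.assoc,
      mappingCone.inl_v_snd_v, mappingCone.inr_f_snd_v, comp_zero, Category.comp_id, zero_add,
      mappingCone.d_snd_v f (i - 1) i (by omega), mappingCone.inl_v_fst_v_assoc,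
      mappingCone.inr_f_fst_v_assoc, mappingCone.inl_v_snd_v_assoc,
      mappingCone.inr_f_snd_v_assoc, zero_comp, add_zero]
    simp only [Preadditive.comp_add] at hz
    rw [Preadditive.sub_comp, Category.assoc, sub_add_eq_add_sub, eq_sub_iff_add_eq, add_comm,
      hz]

section Ext

variable {E F T : CochainComplex C ℤ} {u : E ⟶ F} (z : T ⟶ mappingCone u)

/-- The component `T^i ⟶ E^{i+1}` of `z`. -/
noncomputable def extA (i j : ℤ) (hij : i + 1 = j) : T.X i ⟶ E.X j :=
  z.f i ≫ (mappingCone.fst u).1.v i j hij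

/-- The component `T^i ⟶ F^i` of `z`. -/
noncomputable def extX (i : ℤ) : T.X i ⟶ F.X i :=
  z.f i ≫ (mappingCone.snd u).v i i (add_zero i)

theorem d_extA (i j k : ℤ) (hij : i + 1 = j) (hjk : j + 1 = k) :
    T.d i j ≫ extA z j k hjk = -extA z i j hij ≫ E.d j k := by
  simp [extA, ← z.comm_assoc, mappingCone.d_fst_v u i j k hij hjk]

theorem d_extX (i j : ℤ) (hij : i + 1 = j) :
    T.d i j ≫ extX z j = extA z i j hij ≫ u.f j + extX z i ≫ F.d i j := by
  simp [extA, extX, ← z.comm_assoc, mappingCone.d_snd_v u i j hij]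

/-- The extension of `E` by `T` along `z`. -/
noncomputable abbrev ext : CochainComplex C ℤ :=
  CochainComplex.of (fun i => E.X i ⊞ T.X i)
    (fun i => biprod.desc (E.d i (i + 1) ≫ biprod.inl)
      (biprod.lift (extA z i (i + 1) rfl) (T.d i (i + 1))))
    (fun i => by
      ext <;> simp [d_extA z i (i + 1) (i + 1 + 1) rfl rfl])

theorem ext_d (i j : ℤ) (hij : i + 1 = j) :
    (ext z).d i j = biprod.desc (E.d i j ≫ biprod.inl)
      (biprod.lift (extA z i j hij) (T.d i j)) := by
  subst hij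
  simp [ext, CochainComplex.of.d]

/-- `E ⟶ ext z`. -/
@[simps]
noncomputable def extIncl : E ⟶ ext z where
  f i := (biprod.inl : E.X i ⟶ E.X i ⊞ T.X i)
  comm' i j hij := by
    rw [ext_d z i j hij]
    exact biprod.inl_desc _ _

/-- `ext z ⟶ F`. -/
@[simps]
noncomputable def extDesc : ext z ⟶ F where
  f i := biprod.desc (u.f i) (-extX z i)
  comm' i j hij := by
    rw [ext_d z i j hij]
    apply biprod.hom_ext'
    · simp
    · simp [d_extX z i j hij]

theorem extIncl_desc : extIncl z ≫ extDesc z = u := by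
  ext i
  exact biprod.inl_desc _ _

theorem extIncl_mono (i : ℤ) : Mono ((extIncl z).f i) :=
  inferInstanceAs (Mono (biprod.inl : E.X i ⟶ E.X i ⊞ T.X i))

theorem extIncl_isIso (i : ℤ) (h : IsZero (T.X i)) : IsIso ((extIncl z).f i) :=
  ⟨(biprod.fst : E.X i ⊞ T.X i ⟶ E.X i), biprod.inl_fst, by
    apply biprod.hom_ext'
    · exact (biprod.inl_fst_assoc _).trans (Category.comp_id _).symm
    · exact h.eq_of_src _ _⟩

theorem prop_ext {P : ObjectProperty C} (hA : IsAdditiveSub P) (i : ℤ) (hE : P (E.X i))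
    (hT : P (T.X i)) : P ((ext z).X i) :=
  hA.biprod hE hT

theorem isZero_ext (i : ℤ) (hE : IsZero (E.X i)) (hT : IsZero (T.X i)) :
    IsZero ((ext z).X i) :=
  (biprod_isZero_iff (E.X i) (T.X i)).2 ⟨hE, hT⟩

/-- The cokernel of `E.X i ⟶ (ext z).X i` is `T.X i`. -/
noncomputable def cokerExtIncl (i : ℤ) : cokernel ((extIncl z).f i) ≅ T.X i :=
  cokernelBiprodInlIso

theorem epi_extDesc (i : ℤ) (h : Epi (homologyMap z i)) :
    Epi (homologyMap (extDesc z) i) := by
  rw [epi_homologyMap_iff_up_to_refinements (extDesc z) (i - 1) i (i + 1) (by simp) (by simp)]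
  intro A y hy
  obtain ⟨A₁, π₁, _, t, ht, w, hw⟩ :=
    (epi_homologyMap_iff_up_to_refinements z (i - 1) i (i + 1) (by simp) (by simp)).1 h
      (-y ≫ (mappingCone.inr u).f i) (by simp [reassoc_of% hy])
  obtain ⟨wa, wx, rfl⟩ := mappingCone.decomp_to u w i (by omega)
  have ha : 0 = t ≫ extA z i (i + 1) rfl - wa ≫ E.d i (i + 1) := by
    have := hw =≫ (mappingCone.fst u).1.v i (i + 1) rfl
    simpa [extA, mappingCone.d_fst_v u (i - 1) i (i + 1) (by omega) rfl, ← sub_eq_add_neg]
      using this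
  have hx : -(π₁ ≫ y) = t ≫ extX z i + (wa ≫ u.f i + wx ≫ F.d (i - 1) i) := by
    have := hw =≫ (mappingCone.snd u).v i i (add_zero i)
    simpa [extX, mappingCone.d_snd_v u (i - 1) i (by omega)] using this
  refine ⟨A₁, π₁, inferInstance, biprod.lift (-wa) t, ?_, -wx, ?_⟩
  · rw [ext_d z i (i + 1) rfl]
    apply biprod.hom_ext
    · simp only [biprod.lift_desc, Preadditive.add_comp, Category.assoc, biprod.lift_fst,
        biprod.inl_fst, Category.comp_id, Preadditive.neg_comp, zero_comp]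
      rw [neg_add_eq_sub, ← ha]
    · simp [ht]
  · dsimp [extDesc]
    rw [← neg_neg (π₁ ≫ y), hx, biprod.lift_desc]
    simp only [Preadditive.neg_comp, Preadditive.comp_neg]
    abel

theorem mono_extDesc (i : ℤ) (h₁ : Epi (homologyMap z (i - 1)))
    (h₂ : Mono (homologyMap z i)) : Mono (homologyMap (extDesc z) i) := by
  rw [mono_homologyMap_iff_up_to_refinements (extDesc z) (i - 1) i (i + 1) (by simp) (by simp)]
  intro A p hp y hy
  obtain ⟨e, t, rfl⟩ : ∃ e t, p = biprod.lift e t :=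
    ⟨p ≫ biprod.fst, p ≫ biprod.snd, by apply biprod.hom_ext <;> simp⟩
  rw [ext_d z i (i + 1) rfl] at hp
  have hde : e ≫ E.d i (i + 1) + t ≫ extA z i (i + 1) rfl = 0 := by
    have := hp =≫ biprod.fst
    simpa using this
  have hdt : t ≫ T.d i (i + 1) = 0 := by
    have := hp =≫ biprod.snd
    simpa using this
  have hu : e ≫ u.f i - t ≫ extX z i = y ≫ F.d (i - 1) i := by
    simpa [extDesc, sub_eq_add_neg] using hy
  let c : A ⟶ (mappingCone u).X (i - 1) :=
    e ≫ (mappingCone.inl u).v i (i - 1) (by omega) - y ≫ (mappingCone.inr u).f (i - 1)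
  have hc : t ≫ z.f i = c ≫ (mappingCone u).d (i - 1) i := by
    apply mappingCone.ext_to u i (i + 1) rfl
    · simp [c, mappingCone.d_fst_v u (i - 1) i (i + 1) (by omega) rfl]
      exact eq_neg_of_add_eq_zero_right (by simpa [extA] using hde)
    · simp [c, mappingCone.d_snd_v u (i - 1) i (by omega)]
      rw [← hu, sub_sub_cancel]
      rfl
  obtain ⟨A₁, π₁, _, t₀, ht₀⟩ :=
    (mono_homologyMap_iff_up_to_refinements z (i - 1) i (i + 1) (by simp) (by simp)).1 h₂
      t hdt c hc
  obtain ⟨A₂, π₂, _, t₁, ht₁, w, hw⟩ :=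
    (epi_homologyMap_iff_up_to_refinements z (i - 1 - 1) (i - 1) i (by simp) (by simp)).1 h₁
      (π₁ ≫ c - t₀ ≫ z.f (i - 1)) (by
        rw [Preadditive.sub_comp, Category.assoc, Category.assoc, ← hc, z.comm,
          ← Category.assoc π₁, ← Category.assoc t₀, ← ht₀, sub_self])
  obtain ⟨wa, wx, rfl⟩ := mappingCone.decomp_to u w (i - 1) (by omega)
  have ha : π₂ ≫ π₁ ≫ e - π₂ ≫ t₀ ≫ extA z (i - 1) i (by omega) =
      t₁ ≫ extA z (i - 1) i (by omega) - wa ≫ E.d (i - 1) i := by
    have := hw =≫ (mappingCone.fst u).1.v (i - 1) i (by omega)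
    simpa [c, extA, mappingCone.d_fst_v u (i - 1 - 1) (i - 1) i (by omega) (by omega),
      ← sub_eq_add_neg] using this
  refine ⟨A₂, π₂ ≫ π₁, inferInstance, biprod.lift (-wa) (π₂ ≫ t₀ + t₁), ?_⟩
  rw [ext_d z (i - 1) i (by omega)]
  apply biprod.hom_ext
  · simp only [biprod.lift_desc, Preadditive.add_comp, Category.assoc, biprod.lift_fst,
      biprod.inl_fst, Category.comp_id, Preadditive.neg_comp]
    rw [sub_eq_iff_eq_add] at ha
    rw [ha]
    abel
  · simp [ht₁, ht₀]

theorem quasiIso_extDesc [QuasiIso z] : QuasiIso (extDesc z) := by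
  constructor
  intro i
  rw [quasiIsoAt_iff_isIso_homologyMap]
  haveI := epi_extDesc z i inferInstance
  haveI := mono_extDesc z i inferInstance inferInstance
  exact isIso_of_mono_of_epi _

theorem nqis_extDesc {n : ℤ} (he : ∀ i, n ≤ i → Epi (homologyMap z i))
    (hm : ∀ i, n < i → Mono (homologyMap z i)) : NQis (extDesc z) n := by
  refine ⟨fun i hi => ?_, epi_extDesc z n (he n le_rfl)⟩
  haveI := epi_extDesc z i (he i hi.le)
  haveI := mono_extDesc z i (he (i - 1) (by omega)) (hm i hi)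
  exact isIso_of_mono_of_epi _

end Ext

variable {P : ObjectProperty C}

/-- `S5628`: the modification of `E` in degree `n`. -/
theorem exists_step (hA : IsAdditiveSub P) (hql : PCoh.IsQuasiLiftable P) {E F : CochainComplex C ℤ}
    {u : E ⟶ F} {n : ℤ} (hu : NQis u (n + 1))
    (hft : PCoh.IsOfFiniteType P ((mappingCone u).homology n)) :
    ∃ (E' : CochainComplex C ℤ) (v : E ⟶ E') (u' : E' ⟶ F), v ≫ u' = u ∧
      (∀ i, Mono (v.f i)) ∧ (∀ i, i ≠ n → IsIso (v.f i)) ∧ P (cokernel (v.f n)) ∧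
      (P (E.X n) → P (E'.X n)) ∧ NQis u' n := by
  obtain ⟨E₁, w, hE₁, hw⟩ := exists_epi_lift hql ((mappingCone u).homologyπ n) hft
  have hcl : (w ≫ (mappingCone u).iCycles n) ≫ (mappingCone u).d n (n + 1) = 0 := by simp
  let z : (HomologicalComplex.single C (ComplexShape.up ℤ) n).obj E₁ ⟶ mappingCone u :=
    mkHomFromSingle (w ≫ (mappingCone u).iCycles n) (by rintro k rfl; exact hcl)
  have hz0 : ∀ i, i ≠ n → IsZero (((HomologicalComplex.single C (ComplexShape.up ℤ) n).obj E₁).X i) :=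
    fun i hi => isZero_single_obj_X _ _ _ _ hi
  have hepi : ∀ i, n ≤ i → Epi (homologyMap z i) := by
    intro i hi
    rcases hi.eq_or_lt with rfl | hlt
    · rw [epi_homologyMap_iff_up_to_refinements z (n - 1) n (n + 1) (by simp) (by simp)]
      intro A c hc
      obtain ⟨A₁, π₁, _, s, hs⟩ := surjective_up_to_refinements_of_epi
        (w ≫ (mappingCone u).homologyπ n)
        ((mappingCone u).liftCycles c (n + 1) (by simp) hc ≫ (mappingCone u).homologyπ n)
      have hs' : (π₁ ≫ (mappingCone u).liftCycles c (n + 1) (by simp) hc) ≫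
          (mappingCone u).homologyπ n = (s ≫ w) ≫ (mappingCone u).homologyπ n := by
        simpa using hs
      rw [HomologicalComplex.comp_homologyπ_eq_iff_up_to_refinements _ (n - 1) n (by simp)] at hs'
      obtain ⟨A₂, π₂, _, y, hy⟩ := hs'
      refine ⟨A₂, π₂ ≫ π₁, inferInstance,
        π₂ ≫ s ≫ (singleObjXSelf (ComplexShape.up ℤ) n E₁).inv, ?_, y, ?_⟩
      · simp
      · have := hy =≫ (mappingCone u).iCycles n
        simpa [z] using this
    · have h0 : IsZero ((mappingCone u).homology i) :=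
        (exactAt_iff_isZero_homology _ _).1 (exactAt_cone_of_nqis hu (by omega))
      exact ⟨fun _ _ _ => h0.eq_of_src _ _⟩
  have hmono : ∀ i, n < i → Mono (homologyMap z i) := fun i hi =>
    ⟨fun _ _ _ => (((exactAt_iff_isZero_homology _ _).1
      (HomologicalComplex.exactAt_single_obj (ComplexShape.up ℤ) n E₁ i (by omega)))).eq_of_tgt _ _⟩
  refine ⟨ext z, extIncl z, extDesc z, extIncl_desc z, extIncl_mono z,
    fun i hi => extIncl_isIso z i (hz0 i hi), ?_, ?_, nqis_extDesc z hepi hmono⟩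
  · exact hA.of_iso ((cokerExtIncl z n).trans (singleObjXSelf (ComplexShape.up ℤ) n E₁)).symm hE₁
  · exact fun h => prop_ext z hA n h
      (hA.of_iso (singleObjXSelf (ComplexShape.up ℤ) n E₁).symm hE₁)

/-- `S5600`: an `n`-quasi-isomorphism factors through a quasi-isomorphism. -/
theorem exists_qis_factor {E F : CochainComplex C ℤ} {u : E ⟶ F} {n : ℤ} (hu : NQis u n) :
    ∃ (E' : CochainComplex C ℤ) (v : E ⟶ E') (u' : E' ⟶ F), v ≫ u' = u ∧ QuasiIso u' ∧
      (∀ i, Mono (v.f i)) ∧ (∀ i, n ≤ i → IsIso (v.f i)) := by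
  haveI : (mappingCone u).IsLE (n - 1) := by
    rw [CochainComplex.isLE_iff]
    exact fun i hi => exactAt_cone_of_nqis hu (by omega)
  refine ⟨ext ((mappingCone u).ιTruncLE (n - 1)), extIncl _, extDesc _, extIncl_desc _,
    quasiIso_extDesc _, extIncl_mono _, fun i hi => extIncl_isIso _ i ?_⟩
  exact CochainComplex.isZero_of_isStrictlyLE _ (n - 1) i (by omega)

/-- Descending construction of approximations. -/
theorem exists_approx (hA : IsAdditiveSub P) (hql : PCoh.IsQuasiLiftable P)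
    {G : CochainComplex C ℤ} {n : ℤ}
    (hG : ∀ (m : ℤ) (K : CochainComplex C ℤ) (f : K ⟶ G), n ≤ m → PCoh.IsStrictPC P n K →
      NQis f (m + 1) → PCoh.IsOfFiniteType P ((mappingCone f).homology m))
    {b : ℤ} (hb : n ≤ b) {K₀ : CochainComplex C ℤ} (f₀ : K₀ ⟶ G)
    (hK₀ : PCoh.IsStrictPC P n K₀) (hf₀ : NQis f₀ b) :
    ∃ (K : CochainComplex C ℤ) (v : K₀ ⟶ K) (f : K ⟶ G), v ≫ f = f₀ ∧ PCoh.IsStrictPC P n K ∧
      NQis f n ∧ (∀ i, Mono (v.f i)) ∧ (∀ i, b ≤ i ∨ i < n → IsIso (v.f i)) := by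
  suffices ∀ (k : ℕ) (b : ℤ), n + k = b → ∀ (K₀ : CochainComplex C ℤ) (f₀ : K₀ ⟶ G),
      PCoh.IsStrictPC P n K₀ → NQis f₀ b →
      ∃ (K : CochainComplex C ℤ) (v : K₀ ⟶ K) (f : K ⟶ G), v ≫ f = f₀ ∧ PCoh.IsStrictPC P n K ∧
        NQis f n ∧ (∀ i, Mono (v.f i)) ∧ (∀ i, b ≤ i ∨ i < n → IsIso (v.f i)) from
    this (b - n).toNat b (by omega) K₀ f₀ hK₀ hf₀
  intro k
  induction k with
  | zero =>
    intro b hb K₀ f₀ hK hf
    obtain rfl : n = b := by simpa using hb
    exact ⟨K₀, 𝟙 K₀, f₀, Category.id_comp _, hK, hf, fun i => by dsimp; infer_instance,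
      fun i _ => by dsimp; infer_instance⟩
  | succ k ih =>
    intro b hb K₀ f₀ hK hf
    obtain ⟨K₁, v₁, f₁, hfac, hmono, hiso, -, hP, hf₁⟩ := exists_step hA hql
      (n := b - 1) (u := f₀) (by simpa using hf)
      (hG (b - 1) K₀ f₀ (by omega) hK (by simpa using hf))
    have hK₁ : PCoh.IsStrictPC P n K₁ := by
      obtain ⟨⟨c, hc⟩, hPK⟩ := hK
      refine ⟨⟨max c (b - 1), fun i hi => ?_⟩, fun i hi => ?_⟩
      · haveI := hiso i (by omega)
        exact (hc i (by omega)).of_iso (asIso (v₁.f i)).symm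
      · by_cases h : i = b - 1
        · subst h; exact hP (hPK _ hi)
        · haveI := hiso i h
          exact hA.of_iso (asIso (v₁.f i)) (hPK i hi)
    obtain ⟨K, v, f, hfac', hK', hf', hmono', hiso'⟩ := ih (b - 1) (by omega) K₁ f₁ hK₁ hf₁
    refine ⟨K, v₁ ≫ v, f, by rw [Category.assoc, hfac', hfac], hK', hf', fun i => ?_,
      fun i hi => ?_⟩
    · haveI := hmono i; haveI := hmono' i
      exact mono_comp _ _
    · haveI := hiso i (by omega); haveI := hiso' i (by omega)
      exact IsIso.comp_isIso' inferInstance inferInstance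

theorem isZero_homology_of_bddAbove {E : CochainComplex C ℤ} {b : ℤ}
    (hb : ∀ i, b < i → IsZero (E.X i)) {i : ℤ} (hi : b < i) : IsZero (E.homology i) :=
  (exactAt_iff_isZero_homology _ _).1 (HomologicalComplex.ExactAt.of_isZero (hb i hi))

theorem strictPC_zero (hA : IsAdditiveSub P) (n : ℤ) :
    PCoh.IsStrictPC P n (HomologicalComplex.zero : CochainComplex C ℤ) := by
  have h : ∀ i : ℤ, IsZero ((HomologicalComplex.zero : CochainComplex C ℤ).X i) := fun i =>
    Functor.map_isZero (HomologicalComplex.eval C (ComplexShape.up ℤ) i) HomologicalComplex.isZero_zero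
  exact ⟨⟨0, fun i _ => h i⟩, fun i _ => hA.zero _ (h i)⟩

/-- `S5597` -/
theorem exists_strictPC_qis (hA : IsAdditiveSub P) (hqs : PCoh.IsQuasiStableUnderKernels P)
    (hql : PCoh.IsQuasiLiftable P) {n : ℤ} {E F : CochainComplex C ℤ}
    (hF : PCoh.IsStrictPC P n F) (u : E ⟶ F) [QuasiIso u] :
    ∃ (F' : CochainComplex C ℤ) (v : F' ⟶ E), PCoh.IsStrictPC P n F' ∧ QuasiIso v := by
  obtain ⟨b₀, hb₀⟩ := hF.1
  have hG : ∀ (m : ℤ) (K : CochainComplex C ℤ) (f : K ⟶ E), n ≤ m → PCoh.IsStrictPC P n K →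
      NQis f (m + 1) → PCoh.IsOfFiniteType P ((mappingCone f).homology m) := by
    intro m K f hm hK hf
    let g : mappingCone f ⟶ mappingCone (f ≫ u) :=
      mappingCone.map f (f ≫ u) (𝟙 K) u (by simp)
    letI := HasDerivedCategory.standard C
    have : IsIso (DerivedCategory.Q.map g) := by
      let φ := DerivedCategory.Q.mapTriangle.map
        (mappingCone.triangleMap f (f ≫ u) (𝟙 K) u (by simp))
      exact Pretriangulated.isIso₃_of_isIso₁₂ φ
        (DerivedCategory.mappingCone_triangle_distinguished f)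
        (DerivedCategory.mappingCone_triangle_distinguished (f ≫ u))
        (inferInstanceAs (IsIso (DerivedCategory.Q.map (𝟙 K))))
        (inferInstanceAs (IsIso (DerivedCategory.Q.map u)))
    haveI : QuasiIso g := (DerivedCategory.isIso_Q_map_iff_quasiIso (φ := g)).1 this
    haveI : ∀ i, IsIso (homologyMap g i) := fun i => inferInstance
    have hcone : PCoh.IsStrictPC P m (mappingCone (f ≫ u)) := by
      obtain ⟨c, hc⟩ := hK.1
      refine ⟨⟨max c b₀, fun i hi => ?_⟩, fun i hi => ?_⟩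
      · rw [mappingCone.isZero_X_iff]
        exact ⟨hc _ (by omega), hb₀ _ (by omega)⟩
      · exact hA.of_iso (HomologicalComplex.homotopyCofiber.XIsoBiprod (f ≫ u) i (i + 1) rfl).symm
          (hA.biprod (hK.2 _ (by omega)) (hF.2 _ (by omega)))
    have hcomp : NQis (f ≫ u) (m + 1) := by
      refine ⟨fun i hi => ?_, ?_⟩
      · haveI := hf.1 i hi
        rw [homologyMap_comp]; infer_instance
      · haveI := hf.2
        rw [homologyMap_comp]; exact epi_comp _ _
    exact ft_of_iso (asIso (homologyMap g m)).symm (homology_ft_of_strictPC hqs hcone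
      fun i hi => (exactAt_iff_isZero_homology _ _).1 (exactAt_cone_of_nqis hcomp (by omega)))
  have h0 : NQis (0 : (HomologicalComplex.zero : CochainComplex C ℤ) ⟶ E) (max n (b₀ + 1)) := by
    apply nqis_of_isZero
    · exact fun i _ => (HomologicalComplex.homologyFunctor C _ i).map_isZero HomologicalComplex.isZero_zero
    · exact fun i hi => (isZero_homology_of_bddAbove hb₀ (by omega : b₀ < i)).of_iso
        (asIso (homologyMap u i))
  obtain ⟨K, v, f, -, hK, hf, -, -⟩ :=
    exists_approx hA hql hG (le_max_left _ _) _ (strictPC_zero hA n) h0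
  obtain ⟨F', w, f', -, hf', -, hw⟩ := exists_qis_factor hf
  refine ⟨F', f', ⟨?_, fun i hi => ?_⟩, hf'⟩
  · obtain ⟨c, hc⟩ := hK.1
    refine ⟨max c n, fun i hi => ?_⟩
    haveI := hw i (by omega)
    exact (hc i (by omega)).of_iso (asIso (w.f i)).symm
  · haveI := hw i hi
    exact hA.of_iso (asIso (w.f i)) (hK.2 i hi)

end Groth.PCohPunctual
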